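import Cfsg.Agent.Fix4.Three.Setup
import Cfsg.Agent.PGroup.Basic

/-!
# Fixity four with point stabilisers of odd order divisible by three: strongly 3-embedded
-/

set_option autoImplicit false

namespace Cfsg.Agent.Fix4.Three

open MulAction Subgroup
open scoped Pointwise

/-- The working hypotheses: point stabilisers have odd order, `3`-elements fix at most `d ≤ 4`
points and a Sylow `3`-subgroup fixes fewer than `d` points. -/
structure Ctx (G Ω : Type*) [Group G] [MulAction G Ω] (d : ℕ) : Prop where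
  le_four : d ≤ 4
  odd : ∀ (g : G) (b : Ω), g • b = b → Odd (orderOf g)
  max : ∀ u : G, IsThree u → u ≠ 1 → (fixedBy Ω u).ncard ≤ d
  few : ∀ P : Sylow 3 G, (fixedPoints (P : Subgroup G) Ω).ncard < d

variable {G Ω : Type*} [Group G] [Finite G] [MulAction G Ω] [Finite Ω] {d : ℕ}

/-- A `3`-element with exactly `d` fixed points. -/
def Full (Ω : Type*) [MulAction G Ω] (d : ℕ) (u : G) : Prop :=
  IsThree u ∧ u ≠ 1 ∧ (fixedBy Ω u).ncard = d

theorem Full.conj {u : G} (hu : Full Ω d u) (g : G) : Full Ω d (g * u * g⁻¹) :=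
  ⟨hu.1.conj g, fun h => hu.2.1 (conj_eq_one_iff.1 h), by
    rw [fixedBy_conj_eq, Set.ncard_smul_set, hu.2.2]⟩

namespace Ctx

variable (X : Ctx G Ω d)
include X

theorem ncard_le {u : G} (hu : Full Ω d u) : (fixedBy Ω u).ncard ≤ 4 := hu.2.2.trans_le X.le_four

theorem of_mem_fixing {u v : G} (hu : Full Ω d u) (hv : IsThree v) (hv1 : v ≠ 1)
    (h : v ∈ fixingSubgroup G (fixedBy Ω u)) :
    Full Ω d v ∧ fixedBy Ω v = fixedBy Ω u := by
  have hsub : fixedBy Ω u ⊆ fixedBy Ω v := fun b hb => (mem_fixingSubgroup_iff G).1 h b hb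
  have he : fixedBy Ω u = fixedBy Ω v :=
    Set.eq_of_subset_of_ncard_le hsub ((X.max v hv hv1).trans hu.2.2.ge) (Set.toFinite _)
  exact ⟨⟨hv, hv1, he ▸ hu.2.2⟩, he.symm⟩

omit [Finite G] X in
theorem self_mem_fixing (u : G) : u ∈ fixingSubgroup G (fixedBy Ω u) :=
  (mem_fixingSubgroup_iff G).2 fun _ hb => hb

theorem nonreal {u c : G} (hu : Full Ω d u) (hc : IsThree c) (hcu : c * u = u * c)
    (hcK : c ∉ fixingSubgroup G (fixedBy Ω u)) (g : G) : g * u * g⁻¹ ≠ u⁻¹ := by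
  intro h
  have hgF : g ∈ stabilizer G (fixedBy Ω u) := by
    rw [mem_stabilizer_iff, ← fixedBy_conj_eq, h, fixedBy_inv]
  have hcF := mem_stab_of_commute (Ω := Ω) hcu
  obtain ⟨x₀, hx₀, hmv⟩ : ∃ x₀ ∈ fixedBy Ω u, c • x₀ ≠ x₀ := by
    by_contra h'
    push Not at h'
    exact hcK ((mem_fixingSubgroup_iff G).2 h')
  have hc3 : ∀ b ∈ fixedBy Ω u, c ^ 3 • b = b := by
    intro b hb
    have h3 := ((card_le_three_mul (X.ncard_le hu) hc.isPGroup_zpowers (zpowers_le.2 hcF)).2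
      ⟨c, hcF⟩ ⟨c, hcF⟩ (mem_zpowers c) (mem_zpowers c)).1
    rw [← map_pow] at h3
    exact (mem_fixingSubgroup_iff G).1 ((act_eq_one _).1 h3) b hb
  obtain ⟨k, b, -, hfix⟩ := exists_fix (X.ncard_le hu) hc3 hcF hgF hx₀ hmv
  refine hu.2.1 (odd_inv (X.odd _ b hfix) ?_ hu.1)
  have hk : Commute (c ^ k) u := (show Commute c u from hcu).pow_left k
  rw [mul_inv_rev, ← mul_assoc, mul_assoc g, hk.eq]
  rw [← h]; group

/-- A Sylow subgroup through a full element moves its fixed points, inside its stabiliser. -/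
theorem exists_moving {u : G} (hu : Full Ω d u) (P : Sylow 3 G) (huP : u ∈ (P : Subgroup G)) :
    ∃ m ∈ (P : Subgroup G), m ∈ stabilizer G (fixedBy Ω u) ∧
      m ∉ fixingSubgroup G (fixedBy Ω u) ∧
      ∀ r ∈ (P : Subgroup G), r ∈ fixingSubgroup G (fixedBy Ω u) →
        m * r * m⁻¹ ∈ fixingSubgroup G (fixedBy Ω u) := by
  haveI : Fact (Nat.Prime 3) := ⟨Nat.prime_three⟩
  let F := fixedBy Ω u
  let R : Subgroup ↥(P : Subgroup G) := (fixingSubgroup G F).subgroupOf P
  have hne : R ≠ ⊤ := by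
    intro h
    have hle : (P : Subgroup G) ≤ fixingSubgroup G F := subgroupOf_eq_top.1 h
    have hsub : F ⊆ fixedPoints (P : Subgroup G) Ω := fun b hb p =>
      (mem_fixingSubgroup_iff G).1 (hle p.2) b hb
    have h1 := Set.ncard_le_ncard hsub (Set.toFinite _)
    have h2 := X.few P
    have h3 : F.ncard = d := hu.2.2
    omega
  haveI : Group.IsNilpotent ↥(P : Subgroup G) := P.2.isNilpotent
  obtain ⟨m, hmN, hmR⟩ := SetLike.exists_of_lt
    (Group.normalizerCondition_of_isNilpotent R (lt_top_iff_ne_top.2 hne))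
  have hnorm : ∀ r ∈ (P : Subgroup G), r ∈ fixingSubgroup G F →
      (m : G) * r * (m : G)⁻¹ ∈ fixingSubgroup G F := by
    intro r hr hrK
    exact (Subgroup.mem_normalizer_iff.1 hmN ⟨r, hr⟩).1 hrK
  refine ⟨m, m.2, ?_, hmR, hnorm⟩
  have h1 := hnorm u huP (self_mem_fixing u)
  have h2 := (X.of_mem_fixing hu (hu.1.conj _) (fun h => hu.2.1 (conj_eq_one_iff.1 h)) h1).2
  rw [fixedBy_conj_eq] at h2
  exact mem_stabilizer_iff.2 h2

theorem card_stab_eq {u : G} (hu : Full Ω d u) (P : Sylow 3 G) (huP : u ∈ (P : Subgroup G)) :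
    Nat.card ((P : Subgroup G) ⊓ stabilizer G (fixedBy Ω u) : Subgroup G) =
      3 * Nat.card ((P : Subgroup G) ⊓ fixingSubgroup G (fixedBy Ω u) : Subgroup G) := by
  haveI : Fact (Nat.Prime 3) := ⟨Nat.prime_three⟩
  let F := fixedBy Ω u
  set M : Subgroup G := (P : Subgroup G) ⊓ stabilizer G F with hMdef
  set R : Subgroup G := (P : Subgroup G) ⊓ fixingSubgroup G F with hRdef
  have hRM : R ≤ M := inf_le_inf_left _ (fixing_le_stab F)
  have hM : IsPGroup 3 M := P.2.to_le inf_le_left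
  have hle := (card_le_three_mul (X.ncard_le hu) hM inf_le_right).1
  have he : M ⊓ fixingSubgroup G F = R :=
    le_antisymm (le_inf (inf_le_left.trans inf_le_left) inf_le_right)
      (le_inf hRM inf_le_right)
  rw [he] at hle
  obtain ⟨m, hmP, hmF, hmK, -⟩ := X.exists_moving hu P huP
  have hlt : Nat.card R < Nat.card M := by
    by_contra h
    have := Subgroup.eq_of_le_of_card_ge hRM (not_lt.1 h)
    exact hmK ((this.symm ▸ (⟨hmP, hmF⟩ : m ∈ M) : m ∈ R).2)
  obtain ⟨a, ha⟩ := IsPGroup.iff_card.1 (P.2.to_le (inf_le_left : R ≤ _))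
  obtain ⟨b, hb⟩ := IsPGroup.iff_card.1 hM
  rw [ha, hb] at hlt hle ⊢
  have hab : a < b := (Nat.pow_lt_pow_iff_right (by norm_num)).1 hlt
  have hba : b ≤ a + 1 := (Nat.pow_le_pow_iff_right (by norm_num : 1 < 3)).1
    (hle.trans_eq (pow_succ' 3 a).symm)
  rw [show b = a + 1 by omega, pow_succ']

theorem le_stab {u : G} (hu : Full Ω d u) (P : Sylow 3 G) (huP : u ∈ (P : Subgroup G))
    (hbig : 3 < Nat.card ((P : Subgroup G) ⊓ fixingSubgroup G (fixedBy Ω u) : Subgroup G)) :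
    (P : Subgroup G) ≤ stabilizer G (fixedBy Ω u) := by
  haveI : Fact (Nat.Prime 3) := ⟨Nat.prime_three⟩
  let F := fixedBy Ω u
  set R : Subgroup G := (P : Subgroup G) ⊓ fixingSubgroup G F with hRdef
  by_contra hnle
  let M : Subgroup ↥(P : Subgroup G) := (stabilizer G F).subgroupOf P
  haveI : Group.IsNilpotent ↥(P : Subgroup G) := P.2.isNilpotent
  obtain ⟨g, hgN, hgM⟩ := SetLike.exists_of_lt
    (Group.normalizerCondition_of_isNilpotent M
      (lt_top_iff_ne_top.2 fun h => hnle (subgroupOf_eq_top.1 h)))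
  let R' : Subgroup G := R.map (MulAut.conj (g : G)).toMonoidHom
  have hR'M : R' ≤ (P : Subgroup G) ⊓ stabilizer G F := by
    rintro _ ⟨r, hr, rfl⟩
    refine ⟨(P : Subgroup G).mul_mem ((P : Subgroup G).mul_mem g.2 hr.1)
      ((P : Subgroup G).inv_mem g.2), ?_⟩
    exact (Subgroup.mem_normalizer_iff.1 hgN ⟨r, hr.1⟩).1 (fixing_le_stab F hr.2)
  have hdisj : Disjoint R R' := by
    rw [disjoint_iff_inf_le]
    rintro v ⟨hv, hv'⟩
    obtain ⟨r, hr, rfl⟩ := hv'
    simp only [MulEquiv.coe_toMonoidHom, MulAut.conj_apply] at hv ⊢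
    by_contra hne
    rw [mem_bot] at hne
    have hr1 : r ≠ 1 := fun e => hne (by rw [e, mul_one, mul_inv_cancel])
    have h1 := (X.of_mem_fixing hu (isThree_of_mem P.2 hr.1) hr1 hr.2).2
    have h2 := (X.of_mem_fixing hu (isThree_of_mem P.2 hv.1) hne hv.2).2
    rw [fixedBy_conj_eq, h1] at h2
    exact hgM h2
  have hinj := mul_injective_of_disjoint hdisj
  let φ : R × R' → ((P : Subgroup G) ⊓ stabilizer G F : Subgroup G) := fun t =>
    ⟨(t.1 : G) * t.2, mul_mem ((inf_le_inf_left _ (fixing_le_stab F)) t.1.2) (hR'M t.2.2)⟩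
  have hφ : Function.Injective φ := fun s t h => hinj (congrArg Subtype.val h)
  have h := Nat.card_le_card_of_injective φ hφ
  rw [Nat.card_prod, X.card_stab_eq hu P huP,
    card_map_of_injective (MulAut.conj (g : G)).injective] at h
  have h4 := Nat.le_of_mul_le_mul_right h Nat.card_pos
  omega

/-- No full element has a pointwise stabiliser of its fixed points of `3`-part three. -/
theorem not_small [IsSimpleGroup G] (hna : ¬ IsMulCommutative G) {u : G} (hu : Full Ω d u)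
    (hsmall : ∀ D : Subgroup G, IsPGroup 3 D → D ≤ fixingSubgroup G (fixedBy Ω u) →
      Nat.card D ≤ 3) : False := by
  haveI : Fact (Nat.Prime 3) := ⟨Nat.prime_three⟩
  have hpz := hu.1.isPGroup_zpowers
  have hzK : zpowers u ≤ fixingSubgroup G (fixedBy Ω u) := zpowers_le.2 (self_mem_fixing u)
  have hu3 : orderOf u = 3 := by
    obtain ⟨i, hi⟩ := hu.1.orderOf_eq
    have h := hsmall _ hpz hzK
    rw [Nat.card_zpowers, hi] at h
    rcases i with _ | _ | i
    · exact absurd (orderOf_eq_one_iff.1 (by simpa using hi)) hu.2.1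
    · simpa using hi
    · have := Nat.one_le_pow i 3 (by norm_num)
      simp only [pow_succ] at h
      omega
  obtain ⟨P, hP⟩ := hpz.exists_le_sylow
  have huP : u ∈ (P : Subgroup G) := hP (mem_zpowers u)
  set R : Subgroup G := (P : Subgroup G) ⊓ fixingSubgroup G (fixedBy Ω u) with hRdef
  have hR : R = zpowers u := by
    refine (Subgroup.eq_of_le_of_card_ge (le_inf hP hzK) ?_).symm
    rw [Nat.card_zpowers, hu3]
    exact hsmall _ (P.2.to_le inf_le_left) inf_le_right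
  set M : Subgroup G := (P : Subgroup G) ⊓ stabilizer G (fixedBy Ω u) with hMdef
  have hM : Nat.card M = 3 ^ 2 := by
    rw [hMdef, X.card_stab_eq hu P huP, ← hRdef, hR, Nat.card_zpowers, hu3]; norm_num
  obtain ⟨m, hmP, hmF, hmK, -⟩ := X.exists_moving hu P huP
  have hcomm : m * u = u * m := congrArg Subtype.val
    ((IsPGroup.isMulCommutative_of_card_eq_prime_sq hM).is_comm.comm
      (⟨m, hmP, hmF⟩ : M) ⟨u, huP, fixing_le_stab _ (self_mem_fixing u)⟩)
  refine nine hna hu3 (fun D hD hDu => ?_)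
    (X.nonreal hu (isThree_of_mem P.2 hmP) hcomm hmK) P ?_
  · have hDF : D ≤ stabilizer G (fixedBy Ω u) := fun a ha => mem_stab_of_commute (hDu a ha)
    have h1 := (card_le_three_mul (X.ncard_le hu) hD hDF).1
    have h2 := hsmall _ (hD.to_le (inf_le_left : D ⊓ fixingSubgroup G (fixedBy Ω u) ≤ D))
      inf_le_right
    omega
  · have := Nat.le_of_dvd Nat.card_pos (card_dvd_of_le (inf_le_left : M ≤ _))
    rw [hM] at this
    simpa using this

theorem exists_big [IsSimpleGroup G] (hna : ¬ IsMulCommutative G) {u : G} (hu : Full Ω d u) :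
    ∃ P : Sylow 3 G, u ∈ (P : Subgroup G) ∧
      3 < Nat.card ((P : Subgroup G) ⊓ fixingSubgroup G (fixedBy Ω u) : Subgroup G) ∧
      (P : Subgroup G) ≤ stabilizer G (fixedBy Ω u) := by
  haveI : Fact (Nat.Prime 3) := ⟨Nat.prime_three⟩
  set K := fixingSubgroup G (fixedBy Ω u) with hKdef
  have hzK : zpowers u ≤ K := zpowers_le.2 (self_mem_fixing u)
  obtain ⟨D, hD, hDK, hD3⟩ : ∃ D : Subgroup G, IsPGroup 3 D ∧ D ≤ K ∧ 3 < Nat.card D := by
    by_contra h
    push Not at h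
    exact X.not_small hna hu h
  obtain ⟨T, hT⟩ := (hu.1.isPGroup_zpowers.comap_subtype (K := K)).exists_le_sylow
  obtain ⟨T', hT'⟩ := (hD.comap_subtype (K := K)).exists_le_sylow
  have hTcard : 3 < Nat.card T := by
    rw [Nat.card_congr (T.equiv T').toEquiv]
    refine hD3.trans_le ?_
    rw [← Nat.card_congr (subgroupOfEquivOfLe hDK).toEquiv]
    exact Nat.le_of_dvd Nat.card_pos (card_dvd_of_le hT')
  obtain ⟨P, hP⟩ := (T.2.map K.subtype).exists_le_sylow
  have huP : u ∈ (P : Subgroup G) :=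
    hP ⟨⟨u, self_mem_fixing u⟩, hT (mem_subgroupOf.2 (mem_zpowers u)), rfl⟩
  have hbig : 3 < Nat.card ((P : Subgroup G) ⊓ K : Subgroup G) := by
    refine hTcard.trans_le ?_
    rw [← card_map_of_injective (K.subtype_injective)]
    exact Nat.le_of_dvd Nat.card_pos (card_dvd_of_le (le_inf hP (map_subtype_le _)))
  exact ⟨P, huP, hbig, X.le_stab hu P huP hbig⟩

/-- Every `3`-subgroup stabilising the fixed points of a full element lies in a Sylow subgroup
stabilising them. -/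
theorem exists_sylow_stab [IsSimpleGroup G] (hna : ¬ IsMulCommutative G) {u : G}
    (hu : Full Ω d u) {D : Subgroup G} (hD : IsPGroup 3 D)
    (hDF : D ≤ stabilizer G (fixedBy Ω u)) :
    ∃ P : Sylow 3 G, D ≤ P ∧ (P : Subgroup G) ≤ stabilizer G (fixedBy Ω u) := by
  haveI : Fact (Nat.Prime 3) := ⟨Nat.prime_three⟩
  set H := stabilizer G (fixedBy Ω u) with hHdef
  obtain ⟨P₀, -, -, hP₀⟩ := X.exists_big hna hu
  obtain ⟨T, hT⟩ := (hD.comap_subtype (K := H)).exists_le_sylow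
  obtain ⟨T₀, hT₀⟩ := (P₀.2.comap_subtype (K := H)).exists_le_sylow
  obtain ⟨P, hP⟩ := (T.2.map H.subtype).exists_le_sylow
  have hge : Nat.card P ≤ Nat.card ((T : Subgroup H).map H.subtype) := by
    rw [card_map_of_injective H.subtype_injective, Nat.card_congr (T.equiv T₀).toEquiv,
      Nat.card_congr (P.equiv P₀).toEquiv, ← Nat.card_congr (subgroupOfEquivOfLe hP₀).toEquiv]
    exact Nat.le_of_dvd Nat.card_pos (card_dvd_of_le hT₀)
  have he := Subgroup.eq_of_le_of_card_ge hP hge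
  exact ⟨P, fun a ha => hP ⟨⟨a, hDF ha⟩, hT (mem_subgroupOf.2 ha), rfl⟩,
    he ▸ map_subtype_le _⟩

/-- A full element of `P` outside the big pointwise stabiliser: its centraliser in `P`. -/
theorem outside_data {u y : G} (hu : Full Ω d u) (hy : Full Ω d y) (P : Sylow 3 G)
    (huP : u ∈ (P : Subgroup G)) (hyP : y ∈ (P : Subgroup G))
    (hbig : 3 < Nat.card ((P : Subgroup G) ⊓ fixingSubgroup G (fixedBy Ω u) : Subgroup G))
    (hne : fixedBy Ω y ≠ fixedBy Ω u) :
    orderOf y = 3 ∧ 27 ≤ Nat.card (P : Subgroup G) ∧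
      ∃ z : G, Full Ω d z ∧ fixedBy Ω z = fixedBy Ω u ∧ z ∈ (P : Subgroup G) ∧ orderOf z = 3 ∧
        (∀ a ∈ (P : Subgroup G), a * z = z * a) ∧
        ∀ a ∈ (P : Subgroup G), a * y = y * a → ∃ i j : ℤ, a = y ^ i * z ^ j := by
  haveI : Fact (Nat.Prime 3) := ⟨Nat.prime_three⟩
  have hPF := X.le_stab hu P huP hbig
  set K := fixingSubgroup G (fixedBy Ω u) with hKdef
  set K' := fixingSubgroup G (fixedBy Ω y) with hK'def
  set R : Subgroup G := (P : Subgroup G) ⊓ K with hRdef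
  set R' : Subgroup G := (P : Subgroup G) ⊓ K' with hR'def
  have hcardP : Nat.card (P : Subgroup G) = 3 * Nat.card R := by
    rw [hRdef, ← X.card_stab_eq hu P huP, inf_eq_left.2 hPF]
  have hdisj : Disjoint R R' := by
    rw [disjoint_iff_inf_le]
    rintro v ⟨hv, hv'⟩
    rw [mem_bot]
    by_contra h
    exact hne ((X.of_mem_fixing hy (isThree_of_mem P.2 hv'.1) h hv'.2).2.symm.trans
      (X.of_mem_fixing hu (isThree_of_mem P.2 hv.1) h hv.2).2)
  have hR'3 : Nat.card R' ≤ 3 := by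
    let φ : R × R' → (P : Subgroup G) := fun t => ⟨(t.1 : G) * t.2, mul_mem t.1.2.1 t.2.2.1⟩
    have hφ : Function.Injective φ := fun s t h =>
      mul_injective_of_disjoint hdisj (congrArg Subtype.val h)
    have h := Nat.card_le_card_of_injective φ hφ
    rw [Nat.card_prod, hcardP, mul_comm] at h
    exact Nat.le_of_mul_le_mul_right h Nat.card_pos
  have hyR' : zpowers y ≤ R' := zpowers_le.2 ⟨hyP, self_mem_fixing y⟩
  have hy3 : orderOf y = 3 := by
    obtain ⟨i, hi⟩ := hy.1.orderOf_eq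
    have h := (Nat.le_of_dvd Nat.card_pos (card_dvd_of_le hyR')).trans hR'3
    rw [Nat.card_zpowers, hi] at h
    rcases i with _ | _ | i
    · exact absurd (orderOf_eq_one_iff.1 (by simpa using hi)) hy.2.1
    · simpa using hi
    · have := Nat.one_le_pow i 3 (by norm_num)
      simp only [pow_succ] at h
      omega
  have h27 : 27 ≤ Nat.card (P : Subgroup G) := by
    obtain ⟨i, hi⟩ := IsPGroup.iff_card.1 (P.2.to_le (inf_le_left : R ≤ _))
    have h3 : 3 ^ 1 < 3 ^ i := by rw [pow_one, ← hi]; exact hbig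
    have := Nat.pow_le_pow_right (show 1 ≤ 3 by norm_num)
      ((Nat.pow_lt_pow_iff_right (show 1 < 3 by norm_num)).1 h3)
    rw [hcardP, hi]
    simp only [Nat.succ_eq_add_one] at this
    omega
  refine ⟨hy3, h27, ?_⟩
  -- a central element of `R`
  let N : Subgroup ↥(P : Subgroup G) := K.subgroupOf P
  haveI : N.Normal := ⟨fun r hr p => by
    have hfix : fixedBy Ω u = fixedBy Ω u := rfl
    rw [mem_subgroupOf] at hr ⊢
    rw [hKdef, mem_fixingSubgroup_iff] at hr ⊢
    intro b hb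
    have hb' : ((p : G))⁻¹ • b ∈ fixedBy Ω u := smul_mem_of_stab (inv_mem (hPF p.2)) hb
    simp only [Subgroup.coe_mul, Subgroup.coe_inv, mul_smul]
    rw [hr _ hb', smul_inv_smul]⟩
  have hN : N ≠ ⊥ := by
    intro h
    have : (⟨u, huP⟩ : ↥(P : Subgroup G)) ∈ N := self_mem_fixing u
    rw [h, mem_bot] at this
    exact hu.2.1 (congrArg Subtype.val this)
  obtain ⟨z₀, hz₀, hz₀1⟩ :=
      ((bot_or_exists_ne_one _).resolve_left (PGroup.inf_center_ne_bot P.2 N hN))
  obtain ⟨i, hi⟩ := (isThree_of_mem P.2 z₀.2).orderOf_eq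
  have hi0 : i ≠ 0 := by
    rintro rfl
    exact hz₀1 (Subtype.ext (orderOf_eq_one_iff.1 (by simpa using hi)))
  set z : G := (z₀ : G) ^ 3 ^ (i - 1) with hzdef
  have hz3 : orderOf z = 3 := by
    rw [hzdef, orderOf_pow, hi, Nat.gcd_eq_right (Nat.pow_dvd_pow 3 (by omega)),
      Nat.pow_div (by omega) (by norm_num), show i - (i - 1) = 1 by omega, pow_one]
  have hzP : z ∈ (P : Subgroup G) := pow_mem z₀.2 _
  have hzK : z ∈ K := pow_mem hz₀.1 _
  have hz1 : z ≠ 1 := fun h => by rw [h, orderOf_one] at hz3; norm_num at hz3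
  obtain ⟨hzF, hzfix⟩ := X.of_mem_fixing hu (isThree_of_mem P.2 hzP) hz1 hzK
  have hzc : ∀ a ∈ (P : Subgroup G), a * z = z * a := fun a ha =>
    ((show Commute a (z₀ : G) from
      congrArg Subtype.val (mem_center_iff.1 hz₀.2 ⟨a, ha⟩)).pow_right _).eq
  refine ⟨z, hzF, hzfix, hzP, hz3, hzc, ?_⟩
  set C : Subgroup G := (P : Subgroup G) ⊓ centralizer {y} with hCdef
  have hCF : C ≤ stabilizer G (fixedBy Ω y) := fun a ha =>
    mem_stab_of_commute (mem_centralizer_singleton_iff.1 ha.2)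
  have hC9 : Nat.card C ≤ 9 := by
    have h1 := (card_le_three_mul (X.ncard_le hy) (P.2.to_le inf_le_left) hCF).1
    rw [← hK'def, ← hCdef] at h1
    have h2 : Nat.card (C ⊓ K' : Subgroup G) ≤ 3 :=
      (Nat.le_of_dvd Nat.card_pos (card_dvd_of_le (inf_le_inf_right K' inf_le_left))).trans hR'3
    omega
  have hdz : Disjoint (zpowers y) (zpowers z) := by
    refine hdisj.symm.mono hyR' ?_
    exact zpowers_le.2 ⟨hzP, hzK⟩
  let φ : zpowers y × zpowers z → C := fun t => ⟨(t.1 : G) * t.2, mul_mem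
    ((zpowers_le.2 (show y ∈ C from ⟨hyP, mem_centralizer_singleton_iff.2 rfl⟩)) t.1.2)
    ((zpowers_le.2 (show z ∈ C from
      ⟨hzP, mem_centralizer_singleton_iff.2 (hzc y hyP).symm⟩)) t.2.2)⟩
  have hφ : Function.Injective φ := fun s t h =>
    mul_injective_of_disjoint hdz (congrArg Subtype.val h)
  have hsurj : Function.Surjective φ := by
    refine ((Nat.bijective_iff_injective_and_card φ).2 ⟨hφ, ?_⟩).2
    refine le_antisymm (Nat.card_le_card_of_injective φ hφ) ?_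
    rw [Nat.card_prod, Nat.card_zpowers, Nat.card_zpowers, hy3, hz3]
    exact hC9
  intro a ha hay
  obtain ⟨⟨⟨p, hp⟩, ⟨q, hq⟩⟩, hpq⟩ := hsurj ⟨a, ha, mem_centralizer_singleton_iff.2 hay⟩
  obtain ⟨i, rfl⟩ := mem_zpowers_iff.1 hp
  obtain ⟨j, rfl⟩ := mem_zpowers_iff.1 hq
  exact ⟨i, j, (congrArg Subtype.val hpq).symm⟩

/-- The transvection on `⟨y, z⟩` fixing a central `z`. -/
theorem transvection {u y z : G} (hu : Full Ω d u) (hy : Full Ω d y) (P : Sylow 3 G)
    (huP : u ∈ (P : Subgroup G)) (hyP : y ∈ (P : Subgroup G))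
    (hbig : 3 < Nat.card ((P : Subgroup G) ⊓ fixingSubgroup G (fixedBy Ω u) : Subgroup G))
    (hne : fixedBy Ω y ≠ fixedBy Ω u) (hzP : z ∈ (P : Subgroup G)) (hz3 : orderOf z = 3)
    (hzK : z ∈ fixingSubgroup G (fixedBy Ω u))
    (hzc : ∀ a ∈ (P : Subgroup G), a * z = z * a) :
    ∃ g : G, g * z * g⁻¹ = z ∧ g * y * g⁻¹ = y * z := by
  haveI : Fact (Nat.Prime 3) := ⟨Nat.prime_three⟩
  obtain ⟨hy3, h27, z', hz'F, hz'fix, hz'P, hz'3, hz'c, hgen⟩ :=
    X.outside_data hu hy P huP hyP hbig hne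
  have hPF := X.le_stab hu P huP hbig
  have hz1 : z ≠ 1 := fun h => by rw [h, orderOf_one] at hz3; norm_num at hz3
  have hyK : ∀ i : ℤ, y ^ i ∈ fixingSubgroup G (fixedBy Ω u) → y ^ i = 1 := by
    intro i hi
    by_contra h
    have hP' : y ^ i ∈ (P : Subgroup G) := zpow_mem hyP i
    exact hne (((X.of_mem_fixing hy (isThree_of_mem P.2 hP') h
      (zpow_mem (self_mem_fixing y) i)).2.symm).trans
      (X.of_mem_fixing hu (isThree_of_mem P.2 hP') h hi).2)
  let C : Subgroup ↥(P : Subgroup G) := (centralizer ({y} : Set G)).subgroupOf P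
  have hC : C ≠ ⊤ := by
    intro h
    have hle : (P : Subgroup G) ≤ centralizer {y} := subgroupOf_eq_top.1 h
    have hsub : (P : Subgroup G) ≤ stabilizer G (fixedBy Ω y) := fun a ha =>
      mem_stab_of_commute (mem_centralizer_singleton_iff.1 (hle ha))
    let φ : zpowers y × zpowers z' → G := fun t => (t.1 : G) * t.2
    have hall : ∀ a : (P : Subgroup G), ∃ t, φ t = (a : G) := by
      intro a
      obtain ⟨i, j, hij⟩ := hgen a a.2 (mem_centralizer_singleton_iff.1 (hle a.2))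
      exact ⟨(⟨_, i, rfl⟩, ⟨_, j, rfl⟩), hij.symm⟩
    choose ψ hψ using hall
    have hψi : Function.Injective ψ := fun a b h => Subtype.ext (by rw [← hψ a, h, hψ b])
    have := Nat.card_le_card_of_injective ψ hψi
    rw [Nat.card_prod, Nat.card_zpowers, Nat.card_zpowers, hy3, hz'3] at this
    omega
  haveI : Group.IsNilpotent ↥(P : Subgroup G) := P.2.isNilpotent
  obtain ⟨g, hgN, hgC⟩ := SetLike.exists_of_lt
    (Group.normalizerCondition_of_isNilpotent C (lt_top_iff_ne_top.2 hC))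
  have h1 : (g : G) * y * (g : G)⁻¹ ∈ centralizer {y} :=
    (Subgroup.mem_normalizer_iff.1 hgN ⟨y, hyP⟩).1 (mem_centralizer_singleton_iff.2 rfl)
  obtain ⟨i, j, hij⟩ := hgen _ (mul_mem (mul_mem g.2 hyP) (inv_mem g.2))
    (mem_centralizer_singleton_iff.1 h1)
  -- the image in the action on `Fix u` is abelian
  have hK1 : (g : G) * y * (g : G)⁻¹ * y⁻¹ ∈ fixingSubgroup G (fixedBy Ω u) := by
    have hcm := ((card_le_three_mul (X.ncard_le hu) P.2 hPF).2 ⟨g, hPF g.2⟩ ⟨y, hPF hyP⟩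
      g.2 hyP).2
    refine (act_eq_one (⟨g, hPF g.2⟩ * ⟨y, hPF hyP⟩ * (⟨g, hPF g.2⟩ : stabilizer G _)⁻¹ *
      (⟨y, hPF hyP⟩ : stabilizer G _)⁻¹)).1 ?_
    simp only [map_mul, map_inv, hcm]
    group
  have hcomm : Commute y z := hzc y hyP
  have hz'K : z' ∈ fixingSubgroup G (fixedBy Ω u) := hz'fix ▸ self_mem_fixing z'
  have hyi : y ^ (i - 1) = 1 := by
    refine hyK _ ?_
    have hc' : Commute (y ^ i) (z' ^ j) := (show Commute y z' from hz'c y hyP).zpow_zpow i j
    have e : y ^ (i - 1) = (z' ^ j)⁻¹ * ((g : G) * y * (g : G)⁻¹ * y⁻¹) := by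
      rw [hij, zpow_sub_one, hc'.eq]; group
    rw [e]
    exact mul_mem (inv_mem (zpow_mem hz'K j)) hK1
  have hij' : (g : G) * y * (g : G)⁻¹ = y * z' ^ j := by
    rw [hij]
    conv_lhs => arg 1; rw [show i = (i - 1) + 1 by ring, zpow_add, hyi, one_mul, zpow_one]
  have hne1 : z' ^ j ≠ 1 := fun h => hgC (mem_subgroupOf.2 (mem_centralizer_singleton_iff.2 (by
    rw [h, mul_one, mul_inv_eq_iff_eq_mul] at hij'; exact hij')))
  -- `z` is a power of `z'`
  obtain ⟨a, b, hab⟩ := hgen z hzP hcomm.eq.symm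
  have hya : y ^ a = 1 := by
    refine hyK _ ?_
    rw [eq_mul_inv_of_mul_eq hab.symm]
    exact mul_mem hzK (inv_mem (zpow_mem hz'K b))
  rw [hya, one_mul] at hab
  -- `z ∈ {z' ^ j, (z' ^ j)⁻¹}`
  have hv3 : (z' ^ j) ^ 3 = 1 := by
    rw [← zpow_natCast, ← zpow_mul, mul_comm, zpow_mul, zpow_natCast, ← hz'3,
      pow_orderOf_eq_one, one_zpow]
  have hmem : z ∈ zpowers (z' ^ j) := by
    have hcard : Nat.card (zpowers z') ≤ Nat.card (zpowers (z' ^ j)) := by
      rw [Nat.card_zpowers, Nat.card_zpowers, hz'3, orderOf_eq_prime hv3 hne1]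
    rw [Subgroup.eq_of_le_of_card_ge (zpowers_le.2 (zpow_mem (mem_zpowers z') j)) hcard]
    exact ⟨b, hab.symm⟩
  have hz'' : z = z' ^ j ∨ z = (z' ^ j)⁻¹ := by
    obtain ⟨n, hn⟩ := (mem_powers_iff_mem_zpowers).2 hmem
    dsimp only at hn
    rw [pow_eq_pow_mod n hv3] at hn
    have : n % 3 < 3 := Nat.mod_lt _ (by norm_num)
    interval_cases h : n % 3
    · exact absurd (by simpa using hn.symm) hz1
    · exact Or.inl (by simpa using hn.symm)
    · refine Or.inr (hn.symm.trans (eq_inv_of_mul_eq_one_left ?_))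
      rw [← pow_succ, hv3]
  have hgz : (g : G) * z * (g : G)⁻¹ = z := by rw [hzc g g.2]; group
  rcases hz'' with e | e
  · exact ⟨g, hgz, by rw [hij', e]⟩
  · refine ⟨(g : G)⁻¹, ?_, ?_⟩
    · conv_lhs => rw [← hgz]
      group
    · have h2 : (g : G) * (y * z) * (g : G)⁻¹ = y := by
        calc (g : G) * (y * z) * (g : G)⁻¹
            = ((g : G) * y * (g : G)⁻¹) * ((g : G) * z * (g : G)⁻¹) := by group
          _ = y := by rw [hij', hgz, e, mul_inv_cancel_right]
      conv_lhs => arg 1; arg 2; rw [← h2]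
      group

/-- All full elements of a big Sylow subgroup have the same fixed points. -/
theorem same_of_big [IsSimpleGroup G] (hna : ¬ IsMulCommutative G) {u y : G} (hu : Full Ω d u)
    (hy : Full Ω d y) (P : Sylow 3 G) (huP : u ∈ (P : Subgroup G)) (hyP : y ∈ (P : Subgroup G))
    (hbig : 3 < Nat.card ((P : Subgroup G) ⊓ fixingSubgroup G (fixedBy Ω u) : Subgroup G)) :
    fixedBy Ω y = fixedBy Ω u := by
  haveI : Fact (Nat.Prime 3) := ⟨Nat.prime_three⟩
  by_contra hne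
  obtain ⟨hy3, h27, z, hzF, hzfix, hzP, hz3, hzc, -⟩ := X.outside_data hu hy P huP hyP hbig hne
  have hzK : z ∈ fixingSubgroup G (fixedBy Ω u) := hzfix ▸ self_mem_fixing z
  obtain ⟨g, hgz, hgy⟩ := X.transvection hu hy P huP hyP hbig hne hzP hz3 hzK hzc
  -- the Sylow subgroup on the side of `y`
  have hDF : (P : Subgroup G) ⊓ centralizer {y} ≤ stabilizer G (fixedBy Ω y) := fun a ha =>
    mem_stab_of_commute (mem_centralizer_singleton_iff.1 ha.2)
  obtain ⟨P', hP', hP'F⟩ := X.exists_sylow_stab hna hy (P.2.to_le inf_le_left) hDF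
  have hyP' : y ∈ (P' : Subgroup G) := hP' ⟨hyP, mem_centralizer_singleton_iff.2 rfl⟩
  have hzP' : z ∈ (P' : Subgroup G) :=
    hP' ⟨hzP, mem_centralizer_singleton_iff.2 (hzc y hyP).symm⟩
  have hbig' : 3 < Nat.card ((P' : Subgroup G) ⊓ fixingSubgroup G (fixedBy Ω y) : Subgroup G) := by
    have h1 := X.card_stab_eq hy P' hyP'
    rw [inf_eq_left.2 hP'F, Nat.card_congr (P'.equiv P).toEquiv] at h1
    have h2 : 27 ≤ Nat.card P := h27
    omega
  have hne' : fixedBy Ω z ≠ fixedBy Ω y := hzfix ▸ Ne.symm hne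
  obtain ⟨-, -, w, hwF, hwfix, hwP, hw3, hwc, hgen'⟩ :=
    X.outside_data hy hzF P' hyP' hzP' hbig' hne'
  have hyc : ∀ a ∈ (P' : Subgroup G), a * y = y * a := by
    obtain ⟨i, j, hij⟩ := hgen' y hyP' (hzc y hyP)
    have hzi : z ^ i = 1 := by
      by_contra h
      have hP'' : z ^ i ∈ (P' : Subgroup G) := zpow_mem hzP' i
      refine hne' (((X.of_mem_fixing hzF (isThree_of_mem P'.2 hP'') h
        (zpow_mem (self_mem_fixing z) i)).2.symm).trans
        (X.of_mem_fixing hy (isThree_of_mem P'.2 hP'') h ?_).2)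
      rw [eq_mul_inv_of_mul_eq hij.symm]
      exact mul_mem (self_mem_fixing y) (inv_mem (zpow_mem (hwfix ▸ self_mem_fixing w) j))
    rw [hzi, one_mul] at hij
    intro a ha
    rw [hij]
    exact ((show Commute a w from hwc a ha).zpow_right j).eq
  obtain ⟨g', hg'y, hg'z⟩ := X.transvection (z := y⁻¹) hy hzF P' hyP' hzP' hbig' hne'
    (inv_mem hyP') (by rw [orderOf_inv, hy3]) (inv_mem (self_mem_fixing y))
    (fun a ha => ((show Commute a y from hyc a ha).inv_right).eq)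
  have hg'y' : g' * y * g'⁻¹ = y := by
    have := congrArg (·⁻¹) hg'y
    simpa [mul_assoc] using this
  have hyz : Commute y z := hzc y hyP
  set t := g * g' * g with htdef
  let c : MulAut G := MulAut.conj t
  have hcg : ∀ a, c a = g * (g' * (g * a * g⁻¹) * g'⁻¹) * g⁻¹ := fun a => by
    simp only [c, MulAut.conj_apply, htdef]; group
  have hty : c y = z := by
    rw [hcg, hgy]
    have : g' * (y * z) * g'⁻¹ = z := by
      calc g' * (y * z) * g'⁻¹ = (g' * y * g'⁻¹) * (g' * z * g'⁻¹) := by group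
        _ = y * (z * y⁻¹) := by rw [hg'y', hg'z]
        _ = z := by rw [← mul_assoc, hyz.eq, mul_inv_cancel_right]
    rw [this, hgz]
  have htz : c z = y⁻¹ := by
    rw [hcg, hgz, hg'z]
    calc g * (z * y⁻¹) * g⁻¹ = (g * z * g⁻¹) * (g * y * g⁻¹)⁻¹ := by group
      _ = y⁻¹ := by rw [hgz, hgy, mul_inv_rev, mul_inv_cancel_left]
  refine X.nonreal hy (isThree_of_mem P.2 hzP) hyz.eq.symm ?_ (t * t) ?_
  · intro h
    exact hne' (X.of_mem_fixing hy (isThree_of_mem P.2 hzP) hzF.2.1 h).2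
  · calc t * t * y * (t * t)⁻¹ = c (c y) := by simp only [c, MulAut.conj_apply]; group
      _ = y⁻¹ := by rw [hty, htz]

theorem same [IsSimpleGroup G] (hna : ¬ IsMulCommutative G) (P : Sylow 3 G) {u v : G}
    (hu : Full Ω d u) (huP : u ∈ (P : Subgroup G)) (hv : Full Ω d v) (hvP : v ∈ (P : Subgroup G)) :
    fixedBy Ω u = fixedBy Ω v := by
  haveI : Fact (Nat.Prime 3) := ⟨Nat.prime_three⟩
  obtain ⟨P₀, huP₀, hbig, -⟩ := X.exists_big hna hu
  obtain ⟨g, rfl⟩ := MulAction.exists_smul_eq G P₀ P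
  have key : ∀ a, Full Ω d a → a ∈ ((g • P₀ : Sylow 3 G) : Subgroup G) →
      fixedBy Ω a = g • fixedBy Ω u := by
    intro a ha haP
    have h1 : g⁻¹ * a * g ∈ (P₀ : Subgroup G) := by
      rw [Sylow.coe_subgroup_smul, mem_pointwise_smul_iff_inv_smul_mem] at haP
      simpa [MulAut.smul_def, MulAut.inv_apply] using haP
    have hfull : Full Ω d (g⁻¹ * a * g) := by simpa using ha.conj g⁻¹
    rw [← X.same_of_big hna hu hfull P₀ huP₀ h1 hbig, ← fixedBy_conj_eq]
    congr 1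
    group
  rw [key u hu huP, key v hv hvP]

/-- There are no full elements at all. -/
theorem no_full [IsSimpleGroup G] (hna : ¬ IsMulCommutative G) {u : G} (hu : Full Ω d u) :
    False := by
  classical
  haveI : Fact (Nat.Prime 3) := ⟨Nat.prime_three⟩
  obtain ⟨P, huP, hbig, hPF⟩ := X.exists_big hna hu
  letI : Fintype (G ⧸ (P : Subgroup G)) := Fintype.ofFinite _
  set F := fixedBy Ω u with hFdef
  obtain ⟨x, hxP, -, hxK, -⟩ := X.exists_moving hu P huP
  let f : ↥(P : Subgroup G) →* Equiv.Perm F := (act F).comp (inclusion hPF)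
  have hf := fun a b : ↥(P : Subgroup G) =>
    (card_le_three_mul (X.ncard_le hu) P.2 hPF).2 (inclusion hPF a) (inclusion hPF b) a.2 b.2
  letI : CommGroup f.range :=
    { (inferInstance : Group f.range) with
      mul_comm := by
        rintro ⟨_, a, rfl⟩ ⟨_, b, rfl⟩
        exact Subtype.ext (hf a b).2 }
  let χ : ↥(P : Subgroup G) →* f.range := f.rangeRestrict
  have hχK : ∀ a : ↥(P : Subgroup G), (a : G) ∈ fixingSubgroup G F → χ a = 1 := fun a ha =>
    Subtype.ext ((act_eq_one (inclusion hPF a)).2 ha)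
  have hPx := isThree_of_mem P.2 hxP
  have hfixK : ∀ a : G, Full Ω d a → a ∈ (P : Subgroup G) → a ∈ fixingSubgroup G F := by
    intro a ha haP
    rw [hFdef, ← X.same hna P ha haP hu huP]
    exact self_mem_fixing a
  obtain ⟨x₀, hx₀, hmv⟩ : ∃ x₀ ∈ F, x • x₀ ≠ x₀ := by
    by_contra h'
    push Not at h'
    exact hxK ((mem_fixingSubgroup_iff G).2 h')
  have hpow : ∀ (a : ↥(P : Subgroup G)) (b : Ω), b ∈ F → (a : G) ^ 3 • b = b := by
    intro a b hb
    have h3 := (hf a a).1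
    rw [← map_pow] at h3
    exact (mem_fixingSubgroup_iff G).1 ((act_eq_one _).1 h3) b hb
  have hlong : ∀ (g : G) (l : ℕ), 1 < l → l ∣ orderOf x →
      ∀ h : g⁻¹ * x ^ l * g ∈ (P : Subgroup G), χ ⟨_, h⟩ = 1 := by
    intro g l hl hdvd h
    apply hχK
    by_cases h1 : x ^ l = 1
    · simp [h1]
    obtain ⟨i, hi⟩ := hPx.orderOf_eq
    rw [hi] at hdvd
    obtain ⟨k, -, rfl⟩ := (Nat.dvd_prime_pow Nat.prime_three).1 hdvd
    have hk0 : k ≠ 0 := by rintro rfl; simp at hl
    have hlK : x ^ 3 ^ k ∈ fixingSubgroup G F := by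
      obtain ⟨k', rfl⟩ := Nat.exists_eq_succ_of_ne_zero hk0
      rw [pow_succ', pow_mul]
      exact pow_mem ((mem_fixingSubgroup_iff G).2 fun b hb => hpow ⟨x, hxP⟩ b hb) _
    have hfull := (X.of_mem_fixing hu (hPx.pow _) h1 hlK).1
    have := hfull.conj g⁻¹
    rw [inv_inv] at this
    exact hfixK _ this h
  obtain ⟨hzz, hzzP, hzK', hzz1, hzc⟩ : ∃ z : G, z ∈ (P : Subgroup G) ∧
      z ∈ fixingSubgroup G F ∧ z ≠ 1 ∧ ∀ a ∈ (P : Subgroup G), a * z = z * a := by
    let N : Subgroup ↥(P : Subgroup G) := χ.ker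
    have hN : N ≠ ⊥ := by
      intro h
      have : (⟨u, huP⟩ : ↥(P : Subgroup G)) ∈ N :=
        MonoidHom.mem_ker.2 (hχK _ (self_mem_fixing u))
      rw [h, mem_bot] at this
      exact hu.2.1 (congrArg Subtype.val this)
    obtain ⟨z₀, hz₀, hz₀1⟩ :=
      ((bot_or_exists_ne_one _).resolve_left (PGroup.inf_center_ne_bot P.2 N hN))
    refine ⟨z₀, z₀.2, ?_, fun h => hz₀1 (Subtype.ext h), fun a ha =>
      congrArg Subtype.val (mem_center_iff.1 hz₀.2 ⟨a, ha⟩)⟩
    exact (act_eq_one (inclusion hPF z₀)).1 (congrArg Subtype.val hz₀.1)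
  obtain ⟨hzfull, hzfix⟩ := X.of_mem_fixing hu (isThree_of_mem P.2 hzzP) hzz1 hzK'
  have hconst : ∀ g : G, ∀ h : g⁻¹ * x * g ∈ (P : Subgroup G), χ ⟨_, h⟩ = χ ⟨x, hxP⟩ := by
    intro g h
    set x' := g⁻¹ * x * g with hx'
    set C := centralizer ({x'} : Set G) with hC
    set w := g⁻¹ * hzz * g with hw
    have hwC : w ∈ C := mem_centralizer_singleton_iff.2 (by
      simp only [hw, hx']
      calc g⁻¹ * hzz * g * (g⁻¹ * x * g) = g⁻¹ * (hzz * x) * g := by group
        _ = g⁻¹ * (x * hzz) * g := by rw [hzc x hxP]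
        _ = _ := by group)
    have hwfull : Full Ω d w := by
      have := hzfull.conj g⁻¹; rwa [inv_inv] at this
    have hzC : hzz ∈ C := mem_centralizer_singleton_iff.2 (hzc x' h).symm
    obtain ⟨T, hT⟩ := ((isThree_of_mem P.2 hzzP).isPGroup_zpowers.comap_subtype
      (K := C)).exists_le_sylow
    obtain ⟨T', hT'⟩ := (hwfull.1.isPGroup_zpowers.comap_subtype (K := C)).exists_le_sylow
    obtain ⟨⟨c, hc⟩, hcT⟩ := MulAction.exists_smul_eq C T' T
    have hcw : (⟨c, hc⟩ : C) * ⟨w, hwC⟩ * (⟨c, hc⟩ : C)⁻¹ ∈ (T : Subgroup C) := by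
      rw [← hcT, Sylow.coe_subgroup_smul]
      exact ⟨_, hT' (mem_subgroupOf.2 (mem_zpowers w)), rfl⟩
    obtain ⟨Q, hQ⟩ := (T.2.map C.subtype).exists_le_sylow
    have h1 : hzz ∈ (Q : Subgroup G) :=
      hQ ⟨⟨hzz, hzC⟩, hT (mem_subgroupOf.2 (mem_zpowers hzz)), rfl⟩
    have h2 : c * w * c⁻¹ ∈ (Q : Subgroup G) := hQ ⟨_, hcw, rfl⟩
    have hF : fixedBy Ω (c * w * c⁻¹) = F :=
      (X.same hna Q (hwfull.conj c) h2 hzfull h1).trans hzfix
    set k := c * g⁻¹ with hk
    have hkF : k ∈ stabilizer G F := by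
      rw [mem_stabilizer_iff]
      conv_rhs => rw [← hF]
      have hzfix' : fixedBy Ω hzz = F := hzfix
      conv_lhs => rw [← hzfix']
      rw [← fixedBy_conj_eq]
      congr 1
      simp only [hw, hk]; group
    have hxk : k * x * k⁻¹ = x' := by
      have hcx := mem_centralizer_singleton_iff.1 hc
      simp only [hk]
      calc c * g⁻¹ * x * (c * g⁻¹)⁻¹ = c * (g⁻¹ * x * g) * c⁻¹ := by group
        _ = (g⁻¹ * x * g) * c * c⁻¹ := by rw [← hx', hcx]
        _ = _ := by rw [mul_inv_cancel_right, hx']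
    set K₀ : stabilizer G F := ⟨k, hkF⟩ with hK₀
    set A := act F (inclusion hPF ⟨x, hxP⟩) with hA
    set B := act F (inclusion hPF ⟨x', h⟩) with hB
    have hAB : B = act F K₀ * A * (act F K₀)⁻¹ := by
      rw [hA, hB, ← map_inv, ← map_mul, ← map_mul]
      congr 1
      exact Subtype.ext hxk.symm
    refine Subtype.ext ?_
    show B = A
    -- `B ∈ {1, A, A⁻¹}`
    have hAA : A ^ 3 = 1 := (hf ⟨x, hxP⟩ ⟨x, hxP⟩).1
    have hA1 : A ≠ 1 := fun e => hxK ((act_eq_one _).1 e)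
    have hmem : B ∈ zpowers A := by
      have hr := (card_le_three_mul (X.ncard_le hu) P.2 hPF).1
      have hcard : Nat.card f.range ≤ 3 := by
        have hk1 : Nat.card f.ker * Nat.card f.range = Nat.card ↥(P : Subgroup G) := by
          rw [← index_ker]; exact card_mul_index _
        have hk2 : Nat.card f.ker = Nat.card ((P : Subgroup G) ⊓ fixingSubgroup G F : Subgroup G) :=
          Nat.card_congr
            { toFun := fun a => ⟨(a : ↥(P : Subgroup G)), ⟨(a : ↥(P : Subgroup G)).2,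
                (act_eq_one _).1 a.2⟩⟩
              invFun := fun a => ⟨⟨(a : G), a.2.1⟩,
                (act_eq_one (inclusion hPF ⟨(a : G), a.2.1⟩)).2 a.2.2⟩
              left_inv := fun a => rfl
              right_inv := fun a => rfl }
        rw [← hk2, ← hk1, mul_comm] at hr
        exact Nat.le_of_mul_le_mul_right hr Nat.card_pos
      have hle : zpowers A ≤ f.range := zpowers_le.2 ⟨⟨x, hxP⟩, rfl⟩
      have he := Subgroup.eq_of_le_of_card_ge hle (by
        rw [Nat.card_zpowers, orderOf_eq_prime hAA hA1]; exact hcard)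
      rw [he]
      exact ⟨⟨x', h⟩, rfl⟩
    obtain ⟨n, hn⟩ := (mem_powers_iff_mem_zpowers).2 hmem
    dsimp only at hn
    rw [pow_eq_pow_mod n hAA] at hn
    have : n % 3 < 3 := Nat.mod_lt _ (by norm_num)
    interval_cases hm : n % 3
    · refine absurd ?_ hA1
      rw [pow_zero, hAB, eq_comm, conj_eq_one_iff] at hn
      exact hn
    · rw [← hn, pow_one]
    · exfalso
      have hBinv : B = A⁻¹ := by
        rw [← hn]; exact eq_inv_of_mul_eq_one_left (by rw [← pow_succ, hAA])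
      obtain ⟨i, b, hb, hfixb⟩ :=
        exists_fix (X.ncard_le hu) (fun b hb => hpow ⟨x, hxP⟩ b hb) (hPF hxP) hkF hx₀ hmv
      let W : stabilizer G F := K₀ * (inclusion hPF ⟨x, hxP⟩) ^ i
      have hodd : Odd (orderOf (act F W)) := by
        refine Odd.of_dvd_nat ?_ (orderOf_map_dvd (act F) W)
        rw [← Subgroup.orderOf_coe]
        simpa [W, hK₀] using X.odd _ b hfixb
      refine hA1 (odd_inv hodd ?_ ⟨1, by simpa using hAA⟩)
      rw [← hBinv, hAB]
      simp only [W, map_mul, map_pow, ← hA, mul_inv_rev]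
      have hc : Commute (A ^ i) A := (Commute.refl A).pow_left i
      rw [mul_assoc (act F K₀), hc.eq]
      group
  -- the transfer
  have hval := prod_fixed_eq_one hna χ x hlong (fun _ => χ ⟨x, hxP⟩)
    (fun q _ h => hconst q.out h)
  rw [Finset.prod_const] at hval
  have h1 := IsThree.card_fixedBy (α := G ⧸ (P : Subgroup G)) hPx
  have h2 : Nat.card (fixedBy (G ⧸ (P : Subgroup G)) x) =
      (Finset.univ.filter fun q : G ⧸ (P : Subgroup G) => x • q = q).card := by
    rw [Nat.card_eq_fintype_card, Fintype.card_ofFinset]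
    exact congrArg Finset.card (by ext q; simp [mem_fixedBy])
  rw [h2, ← index_eq_card] at h1
  set n := (Finset.univ.filter fun q : G ⧸ (P : Subgroup G) => x • q = q).card
  have hn : ¬ 3 ∣ n := fun h3 =>
    P.not_dvd_index (Nat.modEq_zero_iff_dvd.1 (h1.trans (Nat.modEq_zero_iff_dvd.2 h3)))
  have h3' : χ ⟨x, hxP⟩ ^ 3 = 1 := Subtype.ext (hf ⟨x, hxP⟩ ⟨x, hxP⟩).1
  have h5 := pow_gcd_eq_one.2 ⟨hval, h3'⟩
  have hg : Nat.gcd n 3 = 1 := (Nat.prime_three.coprime_iff_not_dvd.2 hn).symm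
  rw [hg, pow_one] at h5
  exact hxK ((act_eq_one (inclusion hPF ⟨x, hxP⟩)).1 (congrArg Subtype.val h5))

end Ctx

/-- In a transitive action of a simple group with fixity at most four and point stabilisers of odd
order divisible by three, some proper subgroup is strongly 3-embedded. -/
theorem strongly_three_embedded [IsSimpleGroup G] (hna : ¬ IsMulCommutative G)
    [FaithfulSMul G Ω] (htrans : IsPretransitive G Ω)
    (hfix : ∀ g : G, g ≠ 1 → Nat.card (fixedBy Ω g) ≤ 4) (a : Ω)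
    (hodd : Odd (Nat.card (stabilizer G a))) (h3 : 3 ∣ Nat.card (stabilizer G a)) :
    ∃ H : Subgroup G, H ≠ ⊤ ∧ 3 ∣ Nat.card H ∧
      ∀ g : G, g ∉ H → ¬ 3 ∣ Nat.card ↥(H ⊓ H.map (MulAut.conj g).toMonoidHom) := by
  classical
  haveI : Fact (Nat.Prime 3) := ⟨Nat.prime_three⟩
  letI := Fintype.ofFinite G
  have hoddG : ∀ (g : G) (b : Ω), g • b = b → Odd (orderOf g) := by
    intro g b hb
    obtain ⟨h, rfl⟩ := htrans.exists_smul_eq a b
    have hmem : h⁻¹ * g * h ∈ stabilizer G a := by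
      rw [mem_stabilizer_iff, mul_smul, mul_smul, hb, inv_smul_smul]
    have hconj : orderOf (h⁻¹ * g * h) = orderOf g := by
      have := MulEquiv.orderOf_eq (MulAut.conj h⁻¹) g
      simpa [MulAut.conj_apply] using this
    have hdvd := orderOf_dvd_natCard (⟨_, hmem⟩ : stabilizer G a)
    rw [Subgroup.orderOf_mk, hconj] at hdvd
    exact Odd.of_dvd_nat hodd hdvd
  obtain ⟨P₀⟩ := (inferInstance : Nonempty (Sylow 3 G))
  set U : Finset G := Finset.univ.filter (fun u : G => IsThree u ∧ u ≠ 1) with hU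
  obtain ⟨u₀, hu₀⟩ := exists_prime_orderOf_dvd_card' 3 h3
  have hu₀' : IsThree (u₀ : G) ∧ (u₀ : G) ≠ 1 := by
    have ho : orderOf (u₀ : G) = 3 := by rw [Subgroup.orderOf_coe, hu₀]
    refine ⟨⟨1, by rw [pow_one, ← ho, pow_orderOf_eq_one]⟩, fun h => ?_⟩
    rw [h, orderOf_one] at ho; norm_num at ho
  have hUne : U.Nonempty := ⟨u₀, by simpa [hU] using hu₀'⟩
  obtain ⟨u, huU, humax⟩ := U.exists_max_image (fun u => (fixedBy Ω u).ncard) hUne
  simp only [hU, Finset.mem_filter, Finset.mem_univ, true_and] at huU humax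
  set d := (fixedBy Ω u).ncard with hd
  have hd4 : d ≤ 4 := by rw [hd, ← Nat.card_coe_set_eq]; exact hfix u huU.2
  have hd1 : 0 < d := lt_of_lt_of_le
    ((Set.ncard_pos (s := fixedBy Ω (u₀ : G)) (Set.toFinite _)).2 ⟨a, u₀.2⟩) (humax _ hu₀')
  set F₀ := fixedPoints (P₀ : Subgroup G) Ω with hF₀
  have hsub : ∀ p ∈ (P₀ : Subgroup G), F₀ ⊆ fixedBy Ω p := fun p hp b hb => hb ⟨p, hp⟩
  by_cases hF : F₀.ncard < d
  · exfalso
    refine Ctx.no_full (d := d) (Ω := Ω) ⟨hd4, hoddG, fun v hv hv1 => humax v ⟨hv, hv1⟩, ?_⟩ hna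
      ⟨huU.1, huU.2, rfl⟩
    intro P
    obtain ⟨g, rfl⟩ := MulAction.exists_smul_eq G P₀ P
    refine lt_of_le_of_lt ?_ hF
    rw [← Set.ncard_smul_set g⁻¹]
    refine Set.ncard_le_ncard ?_ (Set.toFinite _)
    rintro _ ⟨b, hb, rfl⟩ ⟨p, hp⟩
    have hgp : g * p * g⁻¹ ∈ ((g • P₀ : Sylow 3 G) : Subgroup G) := by
      rw [Sylow.coe_subgroup_smul]
      exact ⟨p, hp, rfl⟩
    have h1 : (g * p * g⁻¹) • b = b := hb ⟨_, hgp⟩
    show p • g⁻¹ • b = g⁻¹ • b
    rw [eq_inv_smul_iff, ← mul_smul, ← mul_smul]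
    simpa [mul_assoc] using h1
  push Not at hF
  have hF₀eq : ∀ p ∈ (P₀ : Subgroup G), p ≠ 1 → fixedBy Ω p = F₀ := fun p hp hp1 =>
    (Set.eq_of_subset_of_ncard_le (hsub p hp)
      ((humax p ⟨isThree_of_mem P₀.2 hp, hp1⟩).trans hF) (Set.toFinite _)).symm
  refine ⟨stabilizer G F₀, ?_, ?_, ?_⟩
  · intro htop
    obtain ⟨b, hb⟩ := Set.nonempty_of_ncard_ne_zero (show F₀.ncard ≠ 0 by omega)
    have hall : ∀ c : Ω, c ∈ F₀ := by
      intro c
      obtain ⟨g, rfl⟩ := htrans.exists_smul_eq b c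
      exact smul_mem_of_stab (htop ▸ mem_top g) hb
    obtain ⟨P, hP⟩ := huU.1.isPGroup_zpowers.exists_le_sylow
    obtain ⟨g, rfl⟩ := MulAction.exists_smul_eq G P₀ P
    have hu' := hP (mem_zpowers u)
    rw [Sylow.coe_subgroup_smul, mem_pointwise_smul_iff_inv_smul_mem] at hu'
    have hu'' : g⁻¹ * u * g ∈ (P₀ : Subgroup G) := by
      simpa [MulAut.smul_def, MulAut.inv_apply] using hu'
    refine huU.2 (FaithfulSMul.eq_of_smul_eq_smul (α := Ω) fun c => ?_)
    have h1 : (g⁻¹ * u * g) • (g⁻¹ • c) = g⁻¹ • c := hall (g⁻¹ • c) ⟨_, hu''⟩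
    rw [one_smul]
    simpa [mul_smul] using h1
  · refine dvd_trans ?_ (card_dvd_of_le (show (P₀ : Subgroup G) ≤ stabilizer G F₀ from ?_))
    · exact P₀.dvd_card_of_dvd_card (h3.trans (card_subgroup_dvd_card _))
    · intro p hp
      exact fixing_le_stab F₀ ((mem_fixingSubgroup_iff G).2 fun b hb => hsub p hp hb)
  · intro g hg h3'
    obtain ⟨y, hy⟩ := exists_prime_orderOf_dvd_card' 3 h3'
    have hy1 : (y : G) ≠ 1 := fun h => by
      rw [← Subgroup.orderOf_coe, h, orderOf_one] at hy; norm_num at hy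
    have key : ∀ e ∈ stabilizer G F₀, IsThree e → e ≠ 1 → fixedBy Ω e = F₀ := by
      intro e he h3e he1
      set H := stabilizer G F₀ with hH
      have hPH : (P₀ : Subgroup G) ≤ H := fun p hp =>
        fixing_le_stab F₀ ((mem_fixingSubgroup_iff G).2 fun b hb => hsub p hp hb)
      obtain ⟨T, hT⟩ := (h3e.isPGroup_zpowers.comap_subtype (K := H)).exists_le_sylow
      obtain ⟨⟨c, hc⟩, hcT⟩ := MulAction.exists_smul_eq H (P₀.subtype hPH) T
      have hem : (⟨e, he⟩ : H) ∈ (T : Subgroup H) := hT (mem_subgroupOf.2 (mem_zpowers e))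
      rw [← hcT, Sylow.coe_subgroup_smul] at hem
      obtain ⟨⟨p, hpH⟩, hp, hpe⟩ := hem
      have hpe' : c * p * c⁻¹ = e := congrArg Subtype.val hpe
      have hp' : p ∈ (P₀ : Subgroup G) := hp
      have hp1 : p ≠ 1 := fun h => he1 (by rw [← hpe', h, mul_one, mul_inv_cancel])
      rw [← hpe', fixedBy_conj_eq, hF₀eq p hp' hp1]
      exact hc
    obtain ⟨hyH, y', hy', hyy⟩ := y.2
    have hyy' : g * y' * g⁻¹ = (y : G) := hyy
    have hy3 : IsThree (y : G) := ⟨1, by
      rw [pow_one, ← hy, ← Subgroup.orderOf_coe, pow_orderOf_eq_one]⟩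
    have h1 := key _ hyH hy3 hy1
    have hy'3 : IsThree y' := by
      have := hy3.conj g⁻¹
      rwa [← hyy', inv_inv, show g⁻¹ * (g * y' * g⁻¹) * g = y' by group] at this
    have h2 := key y' hy' hy'3 fun h => hy1 (by rw [← hyy', h, mul_one, mul_inv_cancel])
    rw [← hyy', fixedBy_conj_eq, h2] at h1
    exact hg h1

end Cfsg.Agent.Fix4.Three
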