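import Cfsg.Agent.Fix4.Three.Transfer

/-!
# No non-real element of order three with centraliser 3-part nine in a simple group
-/

set_option autoImplicit false

namespace Cfsg.Agent.Fix4.Three

open MulAction Subgroup
open scoped Pointwise

theorem zmod_sum_ne_zero : ∀ S : Finset (ZMod 3 × ZMod 3), S.Nonempty →
    (∀ t ∈ S, t ≠ 0 ∧ -t ∉ S) → ¬ 3 ∣ S.card → (∑ t ∈ S, t) ≠ 0 := by
  decide +kernel

/-- In a group of order nine, a set of elements of order three without inverse pairs whose size is
prime to three has non-trivial product. -/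
theorem no_product {V : Type*} [CommGroup V] [Finite V] (h9 : Nat.card V = 9) (S : Finset V)
    (hne : S.Nonempty) (hord : ∀ v ∈ S, v ^ 3 = 1 ∧ v ≠ 1) (hinv : ∀ v ∈ S, v⁻¹ ∉ S)
    (h3 : ¬ 3 ∣ S.card) : (∏ v ∈ S, v) ≠ 1 := by
  classical
  obtain ⟨a, ha⟩ := hne
  by_cases hall : ∀ v ∈ S, v = a
  · have : S = {a} := Finset.eq_singleton_iff_unique_mem.2 ⟨ha, hall⟩
    rw [this, Finset.prod_singleton]
    exact (hord a ha).2
  push Not at hall
  obtain ⟨b, hb, hba⟩ := hall
  intro hprod
  let f : ZMod 3 × ZMod 3 → V := fun t => a ^ t.1.val * b ^ t.2.val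
  have key : ∀ x : V, x ^ 3 = 1 → ∀ i j : ZMod 3, x ^ (i + j).val = x ^ i.val * x ^ j.val := by
    intro x hx i j
    rw [← pow_add, ZMod.val_add, pow_eq_pow_mod (i.val + j.val) hx]
  have hadd : ∀ s t, f (s + t) = f s * f t := by
    intro s t
    simp only [f, Prod.fst_add, Prod.snd_add, key a (hord a ha).1, key b (hord b hb).1]
    exact mul_mul_mul_comm _ _ _ _
  have hf0 : f 0 = 1 := by simp [f]
  have hker : ∀ t, f t = 1 → t = 0 := by
    rintro ⟨i, j⟩ h
    have hbb : b * b = b⁻¹ := eq_inv_of_mul_eq_one_left (by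
      rw [← (hord b hb).1, pow_three, mul_assoc])
    have haa : a * a = a⁻¹ := eq_inv_of_mul_eq_one_left (by
      rw [← (hord a ha).1, pow_three, mul_assoc])
    have hb1 : b ≠ 1 := (hord b hb).2
    have ha1 : a ≠ 1 := (hord a ha).2
    have hbia : b ≠ a⁻¹ := fun e => hinv a ha (e ▸ hb)
    have habi : b⁻¹ ≠ a⁻¹ := fun e => hba (inv_injective e)
    change a ^ i.val * b ^ j.val = 1 at h
    have hv : ∀ k : ZMod 3, k.val = 0 ∨ k.val = 1 ∨ k.val = 2 := fun k => by
      have := ZMod.val_lt k; omega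
    have hab : a * b ≠ 1 := fun e => hbia (eq_inv_of_mul_eq_one_right e)
    have hab' : a * b⁻¹ ≠ 1 := fun e => hba (mul_inv_eq_one.1 e).symm
    have ha'b : a⁻¹ * b ≠ 1 := fun e => hba (inv_mul_eq_one.1 e).symm
    have ha'b' : a⁻¹ * b⁻¹ ≠ 1 := fun e => hab (by
      rw [← mul_inv, inv_eq_one] at e; exact e)
    have ha' : a⁻¹ ≠ 1 := by simpa using ha1
    have hb' : b⁻¹ ≠ 1 := by simpa using hb1
    rcases hv i with hi | hi | hi <;> rcases hv j with hj | hj | hj <;>
      simp only [hi, hj, pow_zero, pow_one, pow_two, hbb, haa, one_mul, mul_one] at h <;>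
      first
      | exact absurd h hb1
      | exact absurd h hb'
      | exact absurd h ha1
      | exact absurd h ha'
      | exact absurd h hab
      | exact absurd h hab'
      | exact absurd h ha'b
      | exact absurd h ha'b'
      | exact Prod.ext ((ZMod.val_eq_zero i).1 hi) ((ZMod.val_eq_zero j).1 hj)
  have hinj : Function.Injective f := by
    intro s t hst
    have h1 : f (s - t) * f t = f s := by rw [← hadd, sub_add_cancel]
    rw [hst] at h1
    exact sub_eq_zero.1 (hker _ (mul_eq_right.1 h1))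
  have hsurj : Function.Surjective f :=
    ((Nat.bijective_iff_injective_and_card f).2 ⟨hinj, by
      rw [h9, Nat.card_prod, Nat.card_zmod]⟩).2
  let S' : Finset (ZMod 3 × ZMod 3) := Finset.univ.filter fun t => f t ∈ S
  have himg : S'.image f = S := by
    ext v
    simp only [S', Finset.mem_image, Finset.mem_filter, Finset.mem_univ, true_and]
    constructor
    · rintro ⟨t, ht, rfl⟩; exact ht
    · intro hv
      obtain ⟨t, rfl⟩ := hsurj v
      exact ⟨t, hv, rfl⟩
  have hcard : S'.card = S.card := by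
    rw [← himg, Finset.card_image_of_injective _ hinj]
  have hsum : ∀ T : Finset (ZMod 3 × ZMod 3), f (∑ t ∈ T, t) = ∏ t ∈ T, f t := by
    intro T
    refine Finset.induction_on T (by simpa using hf0) fun x T hx ih => ?_
    rw [Finset.sum_insert hx, Finset.prod_insert hx, hadd, ih]
  refine zmod_sum_ne_zero S' ?_ ?_ (hcard ▸ h3) (hker _ ?_)
  · obtain ⟨t, ht⟩ := hsurj a
    exact ⟨t, by simp [S', ht, ha]⟩
  · intro t ht
    simp only [S', Finset.mem_filter, Finset.mem_univ, true_and] at ht ⊢
    refine ⟨fun e => (hord _ ht).2 (e ▸ hf0), fun h => hinv _ ht ?_⟩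
    have : f (-t) = (f t)⁻¹ := eq_inv_of_mul_eq_one_left (by rw [← hadd, neg_add_cancel, hf0])
    rwa [← this]
  · rw [hsum]
    refine Eq.trans ?_ hprod
    rw [← himg, Finset.prod_image fun x _ y _ h => hinj h]

/-- A finite `3`-group of order at least nine has derived subgroup of index at least nine. -/
theorem nine_le_index_commutator {S : Type*} [Group S] [Finite S] (hS : IsPGroup 3 S)
    (h9 : 9 ≤ Nat.card S) : 9 ≤ (commutator S).index := by
  haveI : Fact (Nat.Prime 3) := ⟨Nat.prime_three⟩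
  haveI : Nontrivial S := Finite.one_lt_card_iff_nontrivial.1 (by omega)
  have hnil : Group.IsNilpotent S := hS.isNilpotent
  haveI : Group.IsSolvable S := inferInstance
  obtain ⟨k, hk⟩ := hS.index (commutator S)
  rw [hk]
  by_contra hlt
  push Not at hlt
  have hk1 : k ≠ 0 := by
    rintro rfl
    exact (Group.IsSolvable.commutator_lt_top_of_nontrivial S).ne (index_eq_one.1 (by simpa using hk))
  have hk2 : k < 2 := by
    by_contra h
    have : 3 ^ 2 ≤ 3 ^ k := Nat.pow_le_pow_right (by norm_num) (by omega)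
    omega
  obtain rfl : k = 1 := by omega
  obtain ⟨x, hx⟩ : ∃ x, x ∉ commutator S := by
    by_contra h
    push Not at h
    rw [eq_top_iff' _ |>.2 h, index_top] at hk
    norm_num at hk
  have htop : zpowers x = ⊤ := by
    rcases eq_top_or_exists_le_coatom (zpowers x) with h | ⟨M, hM, hxM⟩
    · exact h
    exfalso
    haveI hMn : M.Normal := NormalizerCondition.normal_of_coatom M Group.normalizerCondition_of_isNilpotent hM
    obtain ⟨j, hj⟩ := hS.index M
    have hq : IsPGroup 3 (S ⧸ M) := hS.to_quotient M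
    haveI : IsSimpleGroup (S ⧸ M) := by
      haveI : Nontrivial (S ⧸ M) := Finite.one_lt_card_iff_nontrivial.1 (by
        rw [← index_eq_card]
        exact one_lt_index_of_ne_top hM.1)
      refine ⟨fun N hN => ?_⟩
      have hle : M ≤ N.comap (QuotientGroup.mk' M) := QuotientGroup.le_comap_mk' M N
      rcases eq_or_lt_of_le hle with h | h
      · left
        apply comap_injective (QuotientGroup.mk'_surjective M)
        rw [← h, MonoidHom.comap_bot, QuotientGroup.ker_mk']
      · right
        apply comap_injective (QuotientGroup.mk'_surjective M)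
        rw [hM.2 _ h, comap_top]
    haveI : Group.IsSolvable (S ⧸ M) := inferInstance
    have hab : ∀ a b : S ⧸ M, a * b = b * a := IsSimpleGroup.comm_iff_isSolvable.2 inferInstance
    have hle : commutator S ≤ M := by
      rw [_root_.commutator_def, commutator_le]
      intro a _ b _
      rw [← QuotientGroup.eq_one_iff]
      have := hab (a : S ⧸ M) (b : S ⧸ M)
      simp only [commutatorElement_def, QuotientGroup.mk_mul, QuotientGroup.mk_inv, this]
      group
    have : M.index = 3 := by
      have h1 := index_dvd_of_le hle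
      rw [hk, pow_one] at h1
      rcases (Nat.dvd_prime Nat.prime_three).1 h1 with h | h
      · exact absurd (index_eq_one.1 h) hM.1
      · exact h
    have heq : commutator S = M := by
      refine Subgroup.eq_of_le_of_card_ge hle ?_
      have h1 := card_mul_index (commutator S)
      have h2 := card_mul_index M
      rw [hk, pow_one] at h1
      rw [this] at h2
      omega
    exact hx (heq ▸ hxM (mem_zpowers x))
  have hbot : commutator S = ⊥ := by
    rw [commutator_eq_bot_iff_center_eq_top, eq_top_iff]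
    intro a _
    rw [mem_center_iff]
    intro b
    obtain ⟨i, rfl⟩ := mem_zpowers_iff.1 (htop ▸ mem_top a : a ∈ zpowers x)
    obtain ⟨j, rfl⟩ := mem_zpowers_iff.1 (htop ▸ mem_top b : b ∈ zpowers x)
    exact (Commute.refl x).zpow_zpow j i
  rw [hbot, index_bot] at hk
  omega

variable {G : Type*} [Group G] [Finite G]

open scoped Classical in
/-- No element of order three is non-real with centraliser of `3`-part nine in a simple group
whose Sylow `3`-subgroups have order at least nine. -/
theorem nine [IsSimpleGroup G] (hna : ¬ IsMulCommutative G) {y : G} (hy : orderOf y = 3)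
    (hC : ∀ D : Subgroup G, IsPGroup 3 D → (∀ d ∈ D, d * y = y * d) → Nat.card D ≤ 9)
    (hreal : ∀ g : G, g * y * g⁻¹ ≠ y⁻¹)
    (P : Sylow 3 G) (h9 : 9 ≤ Nat.card P) : False := by
  haveI : Fact (Nat.Prime 3) := ⟨Nat.prime_three⟩
  letI : Fintype (G ⧸ (P : Subgroup G)) := Fintype.ofFinite _
  have hS9 : 9 ≤ Nat.card (P : Subgroup G) := h9
  haveI : Nontrivial (P : Subgroup G) := Finite.one_lt_card_iff_nontrivial.1 (by omega)
  have hy3 : y ^ 3 = 1 := by rw [← hy]; exact pow_orderOf_eq_one y
  let good : ↥(P : Subgroup G) → Prop := fun c => ∃ h : G, h * y * h⁻¹ = (c : G)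
  have hyinv : ∀ h h' : G, h * y * h⁻¹ ≠ (h' * y * h'⁻¹)⁻¹ := by
    intro h h' e
    refine hreal (h'⁻¹ * h) ?_
    calc h'⁻¹ * h * y * (h'⁻¹ * h)⁻¹ = h'⁻¹ * (h * y * h⁻¹) * h' := by group
      _ = h'⁻¹ * (h' * y * h'⁻¹)⁻¹ * h' := by rw [e]
      _ = y⁻¹ := by group
  have hgood3 : ∀ c, good c → c ^ 3 = 1 ∧ c ≠ 1 := by
    rintro c ⟨h, hc⟩
    constructor
    · ext
      rw [SubmonoidClass.coe_pow, ← hc, conj_pow, hy3, mul_one, mul_inv_cancel]; rfl
    · rintro rfl
      rw [OneMemClass.coe_one, conj_eq_one_iff] at hc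
      rw [hc, orderOf_one] at hy
      norm_num at hy
  -- centralisers in P
  have hcent : ∀ c, good c → Nat.card (centralizer ({c} : Set ↥(P : Subgroup G))) = 9 := by
    intro c hc
    obtain ⟨h, hhc⟩ := hc
    set C := centralizer ({c} : Set ↥(P : Subgroup G)) with hCdef
    have hCp : IsPGroup 3 C := P.2.to_subgroup C
    have hup : Nat.card C ≤ 9 := by
      let D : Subgroup G := C.map ((MulAut.conj h⁻¹).toMonoidHom.comp (P : Subgroup G).subtype)
      have hD : Nat.card D = Nat.card C := card_map_of_injective (by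
        exact (MulAut.conj h⁻¹).injective.comp Subtype.val_injective)
      rw [← hD]
      refine hC D (hCp.map _) ?_
      rintro _ ⟨d, hd, rfl⟩
      have hdc : (d : G) * (c : G) = (c : G) * (d : G) := by
        have := mem_centralizer_singleton_iff.1 hd
        exact congrArg Subtype.val this
      simp only [MonoidHom.coe_comp, MulEquiv.coe_toMonoidHom, Function.comp_apply, coe_subtype,
        MulAut.conj_apply, inv_inv]
      rw [← hhc] at hdc
      calc h⁻¹ * d * h * y = h⁻¹ * ((d : G) * (h * y * h⁻¹)) * h := by group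
        _ = h⁻¹ * ((h * y * h⁻¹) * d) * h := by rw [hdc]
        _ = y * (h⁻¹ * d * h) := by group
    have hne : Nat.card C ≠ 3 := by
      intro h3
      have hcC : c ∈ C := mem_centralizer_singleton_iff.2 rfl
      have hzC : center ↥(P : Subgroup G) ≤ C := fun z hz =>
        mem_centralizer_singleton_iff.2 ((mem_center_iff.1 hz c).symm)
      haveI := P.2.center_nontrivial
      have hZne : center ↥(P : Subgroup G) ≠ ⊥ := (nontrivial_iff_ne_bot _).1 inferInstance
      have hdvd := card_dvd_of_le hzC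
      rw [h3, Nat.dvd_prime Nat.prime_three] at hdvd
      rcases hdvd with h1 | h1
      · exact hZne (card_eq_one.1 h1)
      · have := eq_of_le_of_card_ge hzC (by omega)
        have hcz : c ∈ center ↥(P : Subgroup G) := this ▸ hcC
        have htop : C = ⊤ := eq_top_iff.2 fun z _ =>
          mem_centralizer_singleton_iff.2 (mem_center_iff.1 hcz z)
        rw [htop, card_top] at h3
        omega
    obtain ⟨i, hi⟩ := IsPGroup.iff_card.1 hCp
    have hi0 : i ≠ 0 := by
      rintro rfl
      have hcC : c ∈ C := mem_centralizer_singleton_iff.2 rfl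
      rw [pow_zero, card_eq_one] at hi
      exact (hgood3 c ⟨h, hhc⟩).2 (by rw [hi] at hcC; exact hcC)
    have hi3 : i < 3 := by
      by_contra h'
      have : 3 ^ 3 ≤ 3 ^ i := Nat.pow_le_pow_right (by norm_num) (by omega)
      omega
    interval_cases i <;> omega
  by_cases hex : ∃ c, good c
  swap
  · obtain ⟨Q, hQ⟩ := (IsThree.isPGroup_zpowers (x := y) ⟨1, by simpa using hy3⟩).exists_le_sylow
    obtain ⟨g, rfl⟩ := MulAction.exists_smul_eq G P Q
    have h1 : y ∈ MulAut.conj g • (P : Subgroup G) := hQ (mem_zpowers y)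
    rw [mem_pointwise_smul_iff_inv_smul_mem] at h1
    exact hex ⟨⟨_, h1⟩, g⁻¹, by simp [MulAut.smul_def, MulAut.inv_apply, mul_assoc]⟩
  obtain ⟨c₀, hc₀⟩ := hex
  let χ : ↥(P : Subgroup G) →* Abelianization ↥(P : Subgroup G) := Abelianization.of
  have hker : ∀ z, χ z = 1 ↔ z ∈ commutator ↥(P : Subgroup G) := fun z =>
    QuotientGroup.eq_one_iff z
  have hidx9 := nine_le_index_commutator P.2 hS9
  have hclass : ∀ c, good c → (commutator ↥(P : Subgroup G)).index = 9 ∧
      ∀ z ∈ commutator ↥(P : Subgroup G), ∃ g, g * c * g⁻¹ * c⁻¹ = z := by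
    intro c hc
    set C := centralizer ({c} : Set ↥(P : Subgroup G)) with hCdef
    have hC9 := hcent c hc
    let φ : ↥(P : Subgroup G) ⧸ C → ↥(commutator ↥(P : Subgroup G)) :=
      Quotient.lift (fun g => ⟨g * c * g⁻¹ * c⁻¹, by
        rw [← commutatorElement_def, _root_.commutator_def]
        exact commutator_mem_commutator (mem_top g) (mem_top c)⟩) (by
        intro a b hab
        have h1 : a⁻¹ * b ∈ C := QuotientGroup.leftRel_apply.1 hab
        have h2 := mem_centralizer_singleton_iff.1 h1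
        ext1
        show a * c * a⁻¹ * c⁻¹ = b * c * b⁻¹ * c⁻¹
        calc a * c * a⁻¹ * c⁻¹ = a * (c * (a⁻¹ * b)) * b⁻¹ * c⁻¹ := by group
          _ = a * ((a⁻¹ * b) * c) * b⁻¹ * c⁻¹ := by rw [h2]
          _ = _ := by group)
    have hφ : Function.Injective φ := by
      rintro ⟨a⟩ ⟨b⟩ hab
      have h1 : a * c * a⁻¹ * c⁻¹ = b * c * b⁻¹ * c⁻¹ := congrArg Subtype.val hab
      have h1' := mul_right_cancel h1
      refine Quotient.sound (QuotientGroup.leftRel_apply.2 ?_)
      refine mem_centralizer_singleton_iff.2 ?_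
      calc a⁻¹ * b * c = a⁻¹ * (b * c * b⁻¹) * b := by group
        _ = a⁻¹ * (a * c * a⁻¹) * b := by rw [h1']
        _ = c * (a⁻¹ * b) := by group
    have hle := Nat.card_le_card_of_injective φ hφ
    have h1 := card_mul_index C
    have h2 := card_mul_index (commutator ↥(P : Subgroup G))
    rw [hC9] at h1
    rw [← index_eq_card] at hle
    have h3 : (commutator ↥(P : Subgroup G)).index = 9 := by
      refine le_antisymm ?_ hidx9
      by_contra h'
      have := Nat.mul_le_mul hle (show 10 ≤ (commutator ↥(P : Subgroup G)).index by omega)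
      have hpos : 0 < Nat.card ↥(commutator ↥(P : Subgroup G)) := Nat.card_pos
      nlinarith
    refine ⟨h3, fun z hz => ?_⟩
    rw [h3] at h2
    have hb := ((Nat.bijective_iff_injective_and_card φ).2 ⟨hφ, by
      rw [← index_eq_card]; omega⟩).2
    obtain ⟨⟨g⟩, hg⟩ := hb ⟨z, hz⟩
    exact ⟨g, congrArg Subtype.val hg⟩
  have hV : Nat.card (Abelianization ↥(P : Subgroup G)) = 9 := by
    have := (hclass c₀ hc₀).1
    rwa [index_eq_card] at this
  have hχ1 : ∀ c, good c → χ c ≠ 1 := by
    intro c hc h1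
    obtain ⟨g, hg⟩ := (hclass c hc).2 c⁻¹ (inv_mem ((hker c).1 h1))
    exact (hgood3 c hc).2 (conj_eq_one_iff.1 (mul_eq_right.1 hg))
  have hsame : ∀ c c', good c → χ c' = χ c → ∃ g : G, g * c * g⁻¹ = (c' : G) := by
    intro c c' hc h1
    have h2 : c' * c⁻¹ ∈ commutator ↥(P : Subgroup G) := (hker _).1 (by
      rw [map_mul, map_inv, h1, mul_inv_cancel])
    obtain ⟨g, hg⟩ := (hclass c hc).2 _ h2
    exact ⟨(g : G), by simpa using congrArg Subtype.val (mul_right_cancel hg)⟩
  have hopp : ∀ c c', good c → good c' → χ c' ≠ (χ c)⁻¹ := by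
    rintro c c' hc ⟨h', hc'⟩ h1
    obtain ⟨g, hg⟩ := hsame c c'⁻¹ hc (by rw [map_inv, h1, inv_inv])
    obtain ⟨h, hhc⟩ := hc
    refine hyinv (g * h) h' ?_
    rw [hc', ← InvMemClass.coe_inv, ← hg, ← hhc]
    group
  -- the fixed cosets of y
  have hmem : ∀ q : G ⧸ (P : Subgroup G), y • q = q → q.out⁻¹ * y * q.out ∈ (P : Subgroup G) := by
    intro q hq
    have h1 := QuotientGroup.eq.1 (show ((y * q.out : G) : G ⧸ (P : Subgroup G)) = (q.out : G) by
      rw [QuotientGroup.out_eq']
      conv_rhs => rw [← hq]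
      conv_rhs => rw [← QuotientGroup.out_eq' q]
      rfl)
    have h2 := inv_mem h1
    simpa [mul_assoc] using h2
  let val : G ⧸ (P : Subgroup G) → Abelianization ↥(P : Subgroup G) := fun (q : G ⧸ (P : Subgroup G)) =>
    if h : (Quotient.out q)⁻¹ * y * Quotient.out q ∈ (P : Subgroup G) then χ ⟨(Quotient.out q)⁻¹ * y * Quotient.out q, h⟩ else 1
  let Fx := Finset.univ.filter (fun q : G ⧸ (P : Subgroup G) => y • q = q)
  have hgoodq : ∀ q : G ⧸ (P : Subgroup G), y • q = q → ∀ h : q.out⁻¹ * y * q.out ∈ (P : Subgroup G), good ⟨_, h⟩ := fun q _ h =>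
    ⟨q.out⁻¹, by simp⟩
  have hvalq : ∀ (q : G ⧸ (P : Subgroup G)) (hq : y • q = q), val q = χ ⟨_, hmem q hq⟩ := fun q hq => dif_pos (hmem q hq)
  have hprod : ∏ q ∈ Fx, val q = 1 := by
    refine prod_fixed_eq_one hna χ y ?_ val ?_
    · intro g l hl hdvd h
      rw [hy, Nat.dvd_prime Nat.prime_three] at hdvd
      obtain rfl : l = 3 := by omega
      refine (hker _).2 ?_
      have h1 : (⟨g⁻¹ * y ^ 3 * g, h⟩ : ↥(P : Subgroup G)) = 1 := Subtype.ext (by simp [hy3])
      rw [h1]
      exact one_mem _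
    · intro q hq h
      exact (hvalq q hq).symm
  let m := Nat.card (centralizer ({y} : Set G)) / 9
  have hfib : ∀ v ∈ Fx.image val, (Fx.filter fun q => val q = v).card = m := by
    intro v hv
    simp only [Finset.mem_image, Fx, Finset.mem_filter, Finset.mem_univ, true_and] at hv
    obtain ⟨q₀, hq₀, rfl⟩ := hv
    set Cy := centralizer ({y} : Set G) with hCy
    have horb : ((Fx.filter fun q => val q = val q₀) : Set (G ⧸ (P : Subgroup G))) =
        MulAction.orbit Cy q₀ := by
      ext q
      simp only [Finset.coe_filter, Fx, Finset.mem_filter, Finset.mem_univ, true_and,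
        Set.mem_setOf_eq]
      constructor
      · rintro ⟨hq, hv⟩
        rw [hvalq q hq, hvalq q₀ hq₀] at hv
        obtain ⟨g, hg⟩ := (hclass ⟨_, hmem q₀ hq₀⟩ (hgoodq q₀ hq₀ _)).2
          (⟨_, hmem q hq⟩ * (⟨_, hmem q₀ hq₀⟩ : ↥(P : Subgroup G))⁻¹)
          ((hker _).1 (by rw [map_mul, map_inv, hv, mul_inv_cancel]))
        have hg' : (g : G) * (q₀.out⁻¹ * y * q₀.out) * (g : G)⁻¹ = q.out⁻¹ * y * q.out := by
          simpa using congrArg Subtype.val (mul_right_cancel hg)
        have hd : q.out * (g : G) * q₀.out⁻¹ ∈ Cy := by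
          refine mem_centralizer_singleton_iff.2 ?_
          calc q.out * (g : G) * q₀.out⁻¹ * y
              = q.out * ((g : G) * (q₀.out⁻¹ * y * q₀.out) * (g : G)⁻¹) * (g : G) * q₀.out⁻¹ := by
                group
            _ = y * (q.out * (g : G) * q₀.out⁻¹) := by rw [hg']; group
        refine ⟨⟨_, hd⟩, ?_⟩
        show (q.out * (g : G) * q₀.out⁻¹) • q₀ = q
        conv_lhs => arg 2; rw [← QuotientGroup.out_eq' q₀]
        conv_rhs => rw [← QuotientGroup.out_eq' q]
        show ((q.out * (g : G) * q₀.out⁻¹ * q₀.out : G) : G ⧸ (P : Subgroup G)) = (q.out : G)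
        rw [inv_mul_cancel_right]
        refine QuotientGroup.eq.2 ?_
        simp
      · rintro ⟨⟨d, hd⟩, rfl⟩
        have hdy := mem_centralizer_singleton_iff.1 hd
        change y • (d • q₀) = d • q₀ ∧ val (d • q₀) = val q₀
        have hq : y • (d • q₀) = d • q₀ := by rw [smul_smul, ← hdy, ← smul_smul, hq₀]
        refine ⟨hq, ?_⟩
        rw [hvalq _ hq, hvalq _ hq₀]
        have he : ((d • q₀).out : G ⧸ (P : Subgroup G)) = ((d * q₀.out : G) : G ⧸ (P : Subgroup G)) := by
          rw [QuotientGroup.out_eq']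
          conv_lhs => rw [← QuotientGroup.out_eq' q₀]
          rfl
        have hs := QuotientGroup.eq.1 he
        set s : G := (d • q₀).out⁻¹ * (d * q₀.out) with hsdef
        have : (⟨_, hmem (d • q₀) hq⟩ : ↥(P : Subgroup G)) =
            ⟨s, hs⟩ * ⟨_, hmem q₀ hq₀⟩ * (⟨s, hs⟩ : ↥(P : Subgroup G))⁻¹ := by
          ext
          simp only [Subgroup.coe_mul, Subgroup.coe_inv, hsdef]
          calc (d • q₀).out⁻¹ * y * (d • q₀).out
              = (d • q₀).out⁻¹ * (y * d) * (d⁻¹ * (d • q₀).out) := by group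
            _ = (d • q₀).out⁻¹ * (d * y) * (d⁻¹ * (d • q₀).out) := by rw [hdy]
            _ = _ := by group
        rw [this, map_mul, map_mul, map_inv, mul_comm (χ _) (χ _), mul_assoc, mul_inv_cancel,
          mul_one]
    have hcard : (Fx.filter fun q => val q = val q₀).card = Nat.card (MulAction.orbit Cy q₀) := by
      rw [← horb, Nat.card_coe_set_eq, Set.ncard_coe_finset]
    set c : ↥(P : Subgroup G) := ⟨_, hmem q₀ hq₀⟩ with hcdef
    have hstab : Nat.card (stabilizer Cy q₀) = 9 := by
      rw [← hcent c (hgoodq q₀ hq₀ _)]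
      have hP : ∀ d : G, d • q₀ = q₀ ↔ q₀.out⁻¹ * d * q₀.out ∈ (P : Subgroup G) := by
        intro d
        conv_lhs => rw [← QuotientGroup.out_eq' q₀]
        show ((d * q₀.out : G) : G ⧸ (P : Subgroup G)) = (q₀.out : G) ↔ _
        rw [QuotientGroup.eq, ← inv_mem_iff]
        simp [mul_assoc]
      refine Nat.card_congr
        { toFun := fun d => ⟨⟨_, (hP _).1 d.2⟩, mem_centralizer_singleton_iff.2 ?_⟩
          invFun := fun e => ⟨⟨q₀.out * ((e : ↥(P : Subgroup G)) : G) * q₀.out⁻¹,
            mem_centralizer_singleton_iff.2 ?_⟩, (hP _).2 ?_⟩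
          left_inv := fun d => ?_
          right_inv := fun e => ?_ }
      · ext
        simp only [Subgroup.coe_mul, hcdef]
        have hdy := mem_centralizer_singleton_iff.1 (d : ↥Cy).2
        calc q₀.out⁻¹ * ((d : ↥Cy) : G) * q₀.out * (q₀.out⁻¹ * y * q₀.out)
            = q₀.out⁻¹ * (((d : ↥Cy) : G) * y) * q₀.out := by group
          _ = q₀.out⁻¹ * (y * ((d : ↥Cy) : G)) * q₀.out := by rw [hdy]
          _ = _ := by group; rfl
      · have he := congrArg Subtype.val (mem_centralizer_singleton_iff.1 e.2)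
        simp only [Subgroup.coe_mul, hcdef] at he
        calc q₀.out * ((e : ↥(P : Subgroup G)) : G) * q₀.out⁻¹ * y
            = q₀.out * (((e : ↥(P : Subgroup G)) : G) * (q₀.out⁻¹ * y * q₀.out)) * q₀.out⁻¹ := by
              group
          _ = q₀.out * ((q₀.out⁻¹ * y * q₀.out) * ((e : ↥(P : Subgroup G)) : G)) * q₀.out⁻¹ := by
              rw [he]
          _ = _ := by group
      · simpa [mul_assoc] using (e : ↥(P : Subgroup G)).2
      · apply Subtype.ext; apply Subtype.ext
        simp [mul_assoc]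
      · apply Subtype.ext; apply Subtype.ext
        simp [mul_assoc]
    have hos := MulAction.index_stabilizer Cy q₀
    have h1 := card_mul_index (stabilizer Cy q₀)
    rw [hstab, hos, ← Nat.card_coe_set_eq, ← hcard] at h1
    show _ = Nat.card Cy / 9
    omega
  have htot : Fx.card = (Fx.image val).card * m := by
    rw [Finset.card_eq_sum_card_image val Fx, Finset.sum_congr rfl hfib, Finset.sum_const,
      smul_eq_mul]
  have hk3 : ¬ 3 ∣ Fx.card := by
    have h1 := IsThree.card_fixedBy (α := G ⧸ (P : Subgroup G)) (x := y) ⟨1, by simpa using hy3⟩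
    have h2 : Nat.card (fixedBy (G ⧸ (P : Subgroup G)) y) = Fx.card := by
      rw [Nat.card_eq_fintype_card, Fintype.card_ofFinset]
      exact congrArg Finset.card (by ext q; simp [Fx, mem_fixedBy])
    rw [h2, ← index_eq_card] at h1
    intro h3
    exact P.not_dvd_index ((Nat.modEq_zero_iff_dvd).1 (h1.trans (Nat.modEq_zero_iff_dvd.2 h3)))
  rw [htot] at hk3
  have hm3 : ¬ 3 ∣ m := fun h => hk3 (h.mul_left _)
  have hS3 : ¬ 3 ∣ (Fx.image val).card := fun h => hk3 (h.mul_right _)
  have himg : ∀ v ∈ Fx.image val, ∃ c, good c ∧ χ c = v := by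
    intro v hv
    simp only [Finset.mem_image, Fx, Finset.mem_filter, Finset.mem_univ, true_and] at hv
    obtain ⟨q, hq, rfl⟩ := hv
    exact ⟨_, hgoodq q hq (hmem q hq), (hvalq q hq).symm⟩
  refine no_product hV (Fx.image val) ?_ ?_ ?_ hS3 ?_
  · rw [← Finset.card_pos]
    rcases Nat.eq_zero_or_pos (Fx.image val).card with h | h
    · exact absurd (h ▸ dvd_zero 3) hS3
    · exact h
  · intro v hv
    obtain ⟨c, hc, rfl⟩ := himg v hv
    exact ⟨by rw [← map_pow, (hgood3 c hc).1, map_one], hχ1 c hc⟩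
  · intro v hv hv'
    obtain ⟨c, hc, rfl⟩ := himg v hv
    obtain ⟨c', hc', hcv⟩ := himg _ hv'
    exact hopp c c' hc hc' hcv
  · have h1 : (∏ v ∈ Fx.image val, v) ^ m = 1 := by
      rw [← Finset.prod_pow]
      rw [← hprod, Finset.prod_comp (fun v => v) val]
      exact Finset.prod_congr rfl fun v hv => by rw [hfib v hv]
    have h2 : (∏ v ∈ Fx.image val, v) ^ 9 = 1 := hV ▸ pow_card_eq_one'
    have h3 := pow_gcd_eq_one.2 ⟨h1, h2⟩
    have : Nat.gcd m 9 = 1 := Nat.Coprime.pow_right 2 ((Nat.prime_three.coprime_iff_not_dvd.2 hm3).symm)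
    rwa [this, pow_one] at h3

end Cfsg.Agent.Fix4.Three
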