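import Cfsg.Agent.Fix4.Three.Nine

/-!
# Three-elements with a maximal number of fixed points: local structure (for S3365)
-/

set_option autoImplicit false

namespace Cfsg.Agent.Fix4.Three

open MulAction Subgroup
open scoped Pointwise

variable {G Ω : Type*} [Group G] [MulAction G Ω]

theorem fixedBy_conj_eq (g u : G) : fixedBy Ω (g * u * g⁻¹) = g • fixedBy Ω u := by
  ext x
  rw [Set.mem_smul_set_iff_inv_smul_mem, mem_fixedBy, mem_fixedBy, mul_smul, mul_smul,
    smul_eq_iff_eq_inv_smul]

theorem mem_stab_of_commute {g u : G} (h : g * u = u * g) :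
    g ∈ stabilizer G (fixedBy Ω u) := by
  rw [mem_stabilizer_iff, ← fixedBy_conj_eq, h, mul_inv_cancel_right]

theorem smul_mem_of_stab {F : Set Ω} {g : G} (hg : g ∈ stabilizer G F) {b : Ω} (hb : b ∈ F) :
    g • b ∈ F := by
  have := Set.smul_mem_smul_set (a := g) hb
  rwa [mem_stabilizer_iff.1 hg] at this

/-- The action of the setwise stabiliser on the set. -/
noncomputable def act (F : Set Ω) : stabilizer G F →* Equiv.Perm F where
  toFun g :=
    { toFun := fun b => ⟨(g : G) • (b : Ω), smul_mem_of_stab g.2 b.2⟩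
      invFun := fun b => ⟨(g : G)⁻¹ • (b : Ω), smul_mem_of_stab (inv_mem g.2) b.2⟩
      left_inv := fun b => Subtype.ext (inv_smul_smul _ _)
      right_inv := fun b => Subtype.ext (smul_inv_smul _ _) }
  map_one' := by ext b; exact one_smul G (b : Ω)
  map_mul' g h := by ext b; exact mul_smul (g : G) (h : G) (b : Ω)

theorem act_eq_one {F : Set Ω} (g : stabilizer G F) :
    act F g = 1 ↔ (g : G) ∈ fixingSubgroup G F := by
  rw [mem_fixingSubgroup_iff]
  constructor
  · intro h b hb
    exact congrArg Subtype.val (Equiv.congr_fun h ⟨b, hb⟩)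
  · intro h
    ext b
    exact h b b.2

theorem fixing_le_stab (F : Set Ω) : fixingSubgroup G F ≤ stabilizer G F := by
  intro g hg
  rw [mem_fixingSubgroup_iff] at hg
  rw [mem_stabilizer_iff]
  ext b
  constructor
  · rintro ⟨c, hc, rfl⟩
    show g • c ∈ F
    rwa [hg c hc]
  · intro hb
    exact ⟨b, hb, hg b hb⟩

/-- Conjugation of a fixed element by something inverting it: an element of odd order cannot
invert a non-trivial `3`-element. -/
theorem odd_inv {w u : G} (hw : Odd (orderOf w)) (h : w * u * w⁻¹ = u⁻¹) (hu : IsThree u) :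
    u = 1 := by
  obtain ⟨j, hj⟩ := hw
  have hinv : w * u⁻¹ * w⁻¹ = u := by
    have := congrArg (·⁻¹) h
    simpa [mul_assoc] using this
  have h2 : Commute (w ^ 2) u := by
    have e : w ^ 2 * u * (w ^ 2)⁻¹ = u := by
      rw [pow_two, mul_inv_rev]
      calc w * w * u * (w⁻¹ * w⁻¹) = w * (w * u * w⁻¹) * w⁻¹ := by group
        _ = u := by rw [h, hinv]
    exact mul_inv_eq_iff_eq_mul.1 e
  have h3 := (h2.pow_left j).eq
  have h1 : w ^ (2 * j) * w = 1 := by rw [← pow_succ, ← hj, pow_orderOf_eq_one]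
  rw [← pow_mul] at h3
  have hwinv : w ^ (2 * j) = w⁻¹ := eq_inv_of_mul_eq_one_left h1
  rw [hwinv] at h3
  have hu2 : u ^ 2 = 1 := by
    have : w * u * w⁻¹ = u := by
      calc w * u * w⁻¹ = w * (u * w⁻¹) := by group
        _ = w * (w⁻¹ * u) := by rw [h3]
        _ = u := by group
    rw [this] at h
    rw [pow_two]
    conv_lhs => arg 2; rw [h]
    exact mul_inv_cancel u
  obtain ⟨k, hk⟩ := hu
  have h5 := pow_gcd_eq_one.2 ⟨hu2, hk⟩
  have : Nat.gcd 2 (3 ^ k) = 1 := Nat.Coprime.pow_right k (by norm_num)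
  rwa [this, pow_one] at h5

variable [Finite G] [Finite Ω]

/-- A `3`-subgroup stabilising a set of at most four points induces at most a group of order
three on it. -/
theorem card_le_three_mul {F : Set Ω} (hF : F.ncard ≤ 4) {D : Subgroup G} (hD : IsPGroup 3 D)
    (hDF : D ≤ stabilizer G F) :
    Nat.card D ≤ 3 * Nat.card (D ⊓ fixingSubgroup G F : Subgroup G) ∧
      ∀ a b : stabilizer G F, (a : G) ∈ D → (b : G) ∈ D →
        act F a ^ 3 = 1 ∧ act F a * act F b = act F b * act F a := by
  classical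
  haveI : Fact (Nat.Prime 3) := ⟨Nat.prime_three⟩
  let f := (act F).comp (inclusion hDF)
  have hr : IsPGroup 3 f.range := hD.of_surjective f.rangeRestrict f.rangeRestrict_surjective
  obtain ⟨i, hi⟩ := IsPGroup.iff_card.1 hr
  have hdvd : Nat.card f.range ∣ F.ncard.factorial := by
    have h := f.range.card_subgroup_dvd_card
    rwa [Nat.card_perm, Nat.card_coe_set_eq] at h
  have hi1 : i ≤ 1 := by
    by_contra hlt
    have h9 : 3 ^ 2 ∣ F.ncard.factorial :=
      ((Nat.pow_dvd_pow 3 (by omega : 2 ≤ i)).trans (hi ▸ hdvd))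
    interval_cases hn : F.ncard <;> norm_num [Nat.factorial] at h9
  have hle : Nat.card f.range ≤ 3 := by
    rw [hi]
    exact (Nat.pow_le_pow_right (by norm_num) hi1).trans (by norm_num)
  have hker : Nat.card f.ker = Nat.card (D ⊓ fixingSubgroup G F : Subgroup G) := by
    refine Nat.card_congr
      { toFun := fun d => ⟨(d : D), ⟨(d : D).2, (act_eq_one _).1 d.2⟩⟩
        invFun := fun d => ⟨⟨(d : G), d.2.1⟩, (act_eq_one (inclusion hDF ⟨(d : G), d.2.1⟩)).2 d.2.2⟩
        left_inv := fun d => rfl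
        right_inv := fun d => rfl }
  constructor
  · have h1 := card_mul_index f.ker
    rw [index_ker, hker] at h1
    rw [← h1, mul_comm 3]
    exact Nat.mul_le_mul_left _ hle
  · intro a b ha hb
    have ha' : act F a ∈ f.range := ⟨⟨a, ha⟩, rfl⟩
    have hb' : act F b ∈ f.range := ⟨⟨b, hb⟩, rfl⟩
    have hcyc : IsCyclic f.range := by
      interval_cases i
      · haveI : Subsingleton f.range := (Nat.card_eq_one_iff_unique.1 (by simpa using hi)).1
        exact isCyclic_of_subsingleton
      · exact isCyclic_of_prime_card (by simpa using hi)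
    constructor
    · have h : (⟨_, ha'⟩ : f.range) ^ (3 : ℕ) = 1 := by
        apply orderOf_dvd_iff_pow_eq_one.1
        refine (_root_.orderOf_dvd_natCard _).trans ?_
        rw [hi]
        exact (Nat.pow_dvd_pow 3 hi1).trans (by rw [pow_one])
      exact congrArg Subtype.val h
    · let _ : CommGroup f.range := hcyc.commGroup
      exact congrArg Subtype.val (mul_comm (⟨_, ha'⟩ : f.range) ⟨_, hb'⟩)

omit [Finite G] in
/-- If `c` is a `3`-element moving a point of a set `F` of at most four points and `g` stabilises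
`F`, then some `g * c ^ k` fixes a point of `F`. -/
theorem exists_fix {F : Set Ω} (hF : F.ncard ≤ 4) {c g : G}
    (hc3 : ∀ b ∈ F, c ^ 3 • b = b) (hcF : c ∈ stabilizer G F) (hgF : g ∈ stabilizer G F)
    {x₀ : Ω} (hx₀ : x₀ ∈ F) (hmv : c • x₀ ≠ x₀) :
    ∃ (k : ℕ), ∃ b ∈ F, (g * c ^ k) • b = b := by
  classical
  have hmem : ∀ i : ℕ, c ^ i • x₀ ∈ F := fun i => smul_mem_of_stab (pow_mem hcF i) hx₀
  have hper : ∀ i j : ℕ, c ^ (i + 3 * j) • x₀ = c ^ i • x₀ := by
    intro i j
    induction j with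
    | zero => rfl
    | succ j ih =>
      rw [show i + 3 * (j + 1) = 3 + (i + 3 * j) by ring, pow_add, mul_smul, ih]
      exact hc3 _ (hmem i)
  have h3 : c • c • c • x₀ = x₀ := by
    rw [← mul_smul, ← mul_smul, ← pow_three']
    exact hc3 _ hx₀
  have h2a : c • c • x₀ ≠ x₀ := fun e => hmv (by rw [e] at h3; exact h3)
  have h2b : c • c • x₀ ≠ c • x₀ := fun e => hmv (smul_left_cancel c e)
  let O : Finset Ω := {x₀, c • x₀, c • c • x₀}
  have hO3 : O.card = 3 := Finset.card_eq_three.2 ⟨_, _, _, hmv.symm, h2a.symm, h2b.symm, rfl⟩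
  have hOF : ∀ b ∈ O, ∃ i : ℕ, c ^ i • x₀ = b := by
    intro b hb
    simp only [O, Finset.mem_insert, Finset.mem_singleton] at hb
    rcases hb with rfl | rfl | rfl
    · exact ⟨0, by rw [pow_zero, one_smul]⟩
    · exact ⟨1, by rw [pow_one]⟩
    · exact ⟨2, by rw [pow_two, mul_smul]⟩
  have hex : ∃ b ∈ O, g⁻¹ • b ∈ O := by
    by_contra hno
    push Not at hno
    let O' : Finset Ω := O.image (g⁻¹ • ·)
    have hO' : O'.card = 3 := by
      rw [Finset.card_image_of_injective _ (MulAction.injective g⁻¹), hO3]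
    have hdisj : Disjoint O O' := by
      rw [Finset.disjoint_left]
      intro b hb hb'
      obtain ⟨a, ha, rfl⟩ := Finset.mem_image.1 hb'
      exact hno a ha hb
    have hsub : ((O ∪ O' : Finset Ω) : Set Ω) ⊆ F := by
      intro b hb
      rw [Finset.coe_union] at hb
      rcases hb with hb | hb
      · obtain ⟨i, rfl⟩ := hOF b hb
        exact hmem i
      · obtain ⟨a, ha, rfl⟩ := Finset.mem_image.1 hb
        obtain ⟨i, rfl⟩ := hOF a ha
        exact smul_mem_of_stab (inv_mem hgF) (hmem i)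
    have h := Set.ncard_le_ncard hsub (Set.toFinite _)
    rw [Set.ncard_coe_finset, Finset.card_union_of_disjoint hdisj, hO3, hO'] at h
    omega
  obtain ⟨b, hb, hgb⟩ := hex
  obtain ⟨j, rfl⟩ := hOF b hb
  obtain ⟨i, hi⟩ := hOF _ hgb
  refine ⟨i + 2 * j, _, hmem j, ?_⟩
  rw [mul_smul, ← mul_smul (c ^ _), ← pow_add, show i + 2 * j + j = i + 3 * j by ring, hper, hi,
    smul_inv_smul]

end Cfsg.Agent.Fix4.Three
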