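import Mathlib

/-!
# A transfer lemma for elements of order three with centraliser 3-part nine (for S3365)
-/

set_option autoImplicit false

namespace Cfsg.Agent.Fix4.Three

open MulAction Subgroup

/-- An element of 3-power order. -/
def IsThree {G : Type*} [Group G] (x : G) : Prop := ∃ k : ℕ, x ^ (3 ^ k) = 1

variable {G : Type*} [Group G]

theorem IsThree.conj {x : G} (hx : IsThree x) (g : G) : IsThree (g * x * g⁻¹) := by
  obtain ⟨k, hk⟩ := hx
  exact ⟨k, by rw [conj_pow, hk, mul_one, mul_inv_cancel]⟩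

theorem IsThree.pow {x : G} (hx : IsThree x) (n : ℕ) : IsThree (x ^ n) := by
  obtain ⟨k, hk⟩ := hx
  exact ⟨k, by rw [← pow_mul, mul_comm, pow_mul, hk, one_pow]⟩

theorem IsThree.inv {x : G} (hx : IsThree x) : IsThree x⁻¹ := by
  obtain ⟨k, hk⟩ := hx
  exact ⟨k, by rw [inv_pow, hk, inv_one]⟩

theorem isThree_of_mem {P : Subgroup G} (hP : IsPGroup 3 P) {x : G} (hx : x ∈ P) : IsThree x := by
  obtain ⟨k, hk⟩ := hP ⟨x, hx⟩
  exact ⟨k, congrArg Subtype.val hk⟩

theorem IsThree.orderOf_eq {x : G} (hx : IsThree x) : ∃ i : ℕ, orderOf x = 3 ^ i := by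
  obtain ⟨k, hk⟩ := hx
  obtain ⟨i, -, hi⟩ := (Nat.dvd_prime_pow Nat.prime_three).1 (orderOf_dvd_of_pow_eq_one hk)
  exact ⟨i, hi⟩

theorem IsThree.isPGroup_zpowers {x : G} (hx : IsThree x) : IsPGroup 3 (zpowers x) := by
  obtain ⟨i, hi⟩ := hx.orderOf_eq
  exact IsPGroup.of_card (n := i) (by rw [Nat.card_zpowers, hi])

theorem IsThree.card_fixedBy {α : Type*} [MulAction G α] [Finite α] {x : G} (hx : IsThree x) :
    Nat.card α ≡ Nat.card (fixedBy α x) [MOD 3] := by
  haveI : Fact (Nat.Prime 3) := ⟨Nat.prime_three⟩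
  have h := hx.isPGroup_zpowers.card_modEq_card_fixedPoints α
  have e : fixedPoints (zpowers x) α = fixedBy α x := by
    ext a
    constructor
    · intro ha
      exact ha ⟨x, mem_zpowers x⟩
    · rintro ha ⟨z, hz⟩
      exact (zpowers_le.2 (show x ∈ stabilizer G a from ha)) hz
  rwa [e] at h

theorem hom_trivial [IsSimpleGroup G] (hna : ¬ IsMulCommutative G) {A : Type*} [CommGroup A]
    (f : G →* A) (x : G) : f x = 1 := by
  rcases IsSimpleGroup.eq_bot_or_eq_top_of_normal f.ker inferInstance with h | h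
  · refine absurd ⟨⟨fun a b => (f.ker_eq_bot_iff).1 h ?_⟩⟩ hna
    rw [map_mul, map_mul, mul_comm]
  · have : x ∈ f.ker := h ▸ mem_top x
    exact this

variable [Finite G]

open scoped Classical in
/-- The transfer of `x` into an abelian group, computed on the cosets fixed by `x`. -/
theorem prod_fixed_eq_one [IsSimpleGroup G] (hna : ¬ IsMulCommutative G) {H : Subgroup G}
    {A : Type*} [CommGroup A] (χ : H →* A) (x : G) [Fintype (G ⧸ H)]
    (hlong : ∀ (g : G) (l : ℕ), 1 < l → l ∣ orderOf x →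
      ∀ h : g⁻¹ * x ^ l * g ∈ H, χ ⟨_, h⟩ = 1)
    (val : G ⧸ H → A) (hval : ∀ (q : G ⧸ H), x • q = q →
      ∀ h : q.out⁻¹ * x * q.out ∈ H, χ ⟨_, h⟩ = val q) :
    ∏ q ∈ Finset.univ.filter (fun q : G ⧸ H => x • q = q), val q = 1 := by
  letI : Fintype (Quotient (orbitRel (zpowers x) (G ⧸ H))) := Fintype.ofFinite _
  have e := MonoidHom.transfer_eq_prod_quotient_orbitRel_zpowers_quot χ x
  rw [hom_trivial hna] at e
  rw [e]
  have hne : ∀ r : Quotient (orbitRel (zpowers x) (G ⧸ H)), ¬ x • r.out = r.out →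
      χ ⟨r.out.out⁻¹ * x ^ Function.minimalPeriod (x • ·) r.out * r.out.out,
        QuotientGroup.out_conj_pow_minimalPeriod_mem H x r.out⟩ = 1 := by
    intro r hr
    refine hlong _ _ ?_ (MulAction.period_dvd_orderOf x r.out) _
    have h1 : 0 < Function.minimalPeriod (x • ·) r.out :=
      MulAction.period_pos_of_orderOf_pos (orderOf_pos x) r.out
    have h2 : Function.minimalPeriod (x • ·) r.out ≠ 1 := fun h =>
      hr (Function.minimalPeriod_eq_one_iff_isFixedPt.1 h)
    exact Nat.lt_of_le_of_ne h1 (Ne.symm h2)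
  rw [← Finset.prod_filter_of_ne (p := fun r : Quotient (orbitRel (zpowers x) (G ⧸ H)) =>
    x • r.out = r.out) (fun r _ h => by_contra fun hr => h (hne r hr))]
  refine Finset.prod_bij' (fun q _ => Quotient.mk'' q) (fun r _ => r.out) ?_ ?_ ?_ ?_ ?_
  · intro q hq
    simp only [Finset.mem_filter, Finset.mem_univ, true_and] at hq ⊢
    obtain ⟨⟨z, hz⟩, hzq⟩ := Quotient.exact' (Quotient.out_eq' (Quotient.mk'' q :
      Quotient (orbitRel (zpowers x) (G ⧸ H))))
    have : z • q = q := (zpowers_le.2 (show x ∈ stabilizer G q from hq)) hz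
    have hout : (Quotient.mk'' q : Quotient (orbitRel (zpowers x) (G ⧸ H))).out = q :=
      hzq.symm.trans this
    rw [hout]; exact hq
  · intro r hr
    simpa using hr
  · intro q hq
    simp only [Finset.mem_filter, Finset.mem_univ, true_and] at hq
    obtain ⟨⟨z, hz⟩, hzq⟩ := Quotient.exact' (Quotient.out_eq' (Quotient.mk'' q :
      Quotient (orbitRel (zpowers x) (G ⧸ H))))
    have : z • q = q := (zpowers_le.2 (show x ∈ stabilizer G q from hq)) hz
    exact hzq.symm.trans this
  · intro r _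
    exact Quotient.out_eq' r
  · intro q hq
    simp only [Finset.mem_filter, Finset.mem_univ, true_and] at hq
    obtain ⟨⟨z, hz⟩, hzq⟩ := Quotient.exact' (Quotient.out_eq' (Quotient.mk'' q :
      Quotient (orbitRel (zpowers x) (G ⧸ H))))
    have : z • q = q := (zpowers_le.2 (show x ∈ stabilizer G q from hq)) hz
    have hout : (Quotient.mk'' q : Quotient (orbitRel (zpowers x) (G ⧸ H))).out = q :=
      hzq.symm.trans this
    have hper : Function.minimalPeriod (x • ·) q = 1 :=
      Function.minimalPeriod_eq_one_iff_isFixedPt.2 hq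
    have hmem : q.out⁻¹ * x * q.out ∈ H := by
      have := QuotientGroup.out_conj_pow_minimalPeriod_mem H x q
      rwa [hper, pow_one] at this
    rw [← hval q hq hmem]
    congr 1
    ext
    simp only [hout, hper, pow_one]

end Cfsg.Agent.Fix4.Three
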